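import Cfsg.Agent.Lib.SporRecognition.CosetCert.Upper
import Cfsg.Agent.Lib.SporRecognition.Cert.He49980.Steps1
import Cfsg.Agent.Lib.SporRecognition.Cert.He49980.Steps2
import Cfsg.Agent.Lib.SporRecognition.Cert.He49980.Steps3
import Cfsg.Agent.Lib.SporRecognition.Cert.He49980.Steps4
import Cfsg.Agent.Lib.SporRecognition.Cert.He49980.Steps5
import Cfsg.Agent.Lib.SporRecognition.Cert.He49980.Steps6
import Cfsg.Agent.Lib.SporRecognition.Cert.He49980.Steps7
import Cfsg.Agent.Lib.SporRecognition.Cert.He49980.Steps8
import Cfsg.Agent.Lib.SporRecognition.Cert.He49980.Steps9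
import Cfsg.Agent.Lib.SporRecognition.Cert.He49980.Steps10
import Cfsg.Agent.Lib.SporRecognition.Cert.He49980.Steps11
import Cfsg.Agent.Lib.SporRecognition.Cert.He49980.Steps12
import Cfsg.Agent.Lib.SporRecognition.Cert.He49980.Steps13
import Cfsg.Agent.Lib.SporRecognition.Cert.He49980.Steps14
import Cfsg.Agent.Lib.SporRecognition.Cert.He49980.Steps15
import Cfsg.Agent.Lib.SporRecognition.Cert.He49980.Steps16

/-! Generated coset-enumeration certificate: He over <a, c, d, e, f, g>, 49980 cosets. -/

set_option autoImplicit false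
set_option maxRecDepth 20000
set_option linter.all false
set_option Elab.async false

namespace CfsgLib.SporRecognition.Cert.He49980

open CfsgLib.SporRecognition.CosetCert

theorem defs_ok_c0 : allPow 49979 (defStep inv fact) 12 0 = true := by decide +kernel
theorem defs_ok_c1 : allPow 49979 (defStep inv fact) 12 4096 = true := by decide +kernel
theorem defs_ok_c2 : allPow 49979 (defStep inv fact) 12 8192 = true := by decide +kernel
theorem defs_ok_c3 : allPow 49979 (defStep inv fact) 12 12288 = true := by decide +kernel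
theorem defs_ok_c4 : allPow 49979 (defStep inv fact) 12 16384 = true := by decide +kernel
theorem defs_ok_c5 : allPow 49979 (defStep inv fact) 12 20480 = true := by decide +kernel
theorem defs_ok_c6 : allPow 49979 (defStep inv fact) 12 24576 = true := by decide +kernel
theorem defs_ok_c7 : allPow 49979 (defStep inv fact) 12 28672 = true := by decide +kernel
theorem defs_ok_c8 : allPow 49979 (defStep inv fact) 12 32768 = true := by decide +kernel
theorem defs_ok_c9 : allPow 49979 (defStep inv fact) 12 36864 = true := by decide +kernel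
theorem defs_ok_c10 : allPow 49979 (defStep inv fact) 12 40960 = true := by decide +kernel
theorem defs_ok_c11 : allPow 49979 (defStep inv fact) 12 45056 = true := by decide +kernel
theorem defs_ok_c12 : allPow 49979 (defStep inv fact) 12 49152 = true := by decide +kernel
theorem defs_ok : allBelow 16 49979 (defStep inv fact) = true :=
  allBelow_of_upto (hi := 53248)
    (Upto.trans (mid := 24576) (Upto.trans (mid := 12288) (Upto.trans (mid := 4096) ((Upto.of_pow defs_ok_c0 (Nat.le_refl _)) : Upto _ _ 0 (0 + 2 ^ 12))
    (Upto.trans (mid := 8192) ((Upto.of_pow defs_ok_c1 (Nat.le_refl _)) : Upto _ _ 4096 (4096 + 2 ^ 12))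
    ((Upto.of_pow defs_ok_c2 (Nat.le_refl _)) : Upto _ _ 8192 (8192 + 2 ^ 12))))
    (Upto.trans (mid := 16384) ((Upto.of_pow defs_ok_c3 (Nat.le_refl _)) : Upto _ _ 12288 (12288 + 2 ^ 12))
    (Upto.trans (mid := 20480) ((Upto.of_pow defs_ok_c4 (Nat.le_refl _)) : Upto _ _ 16384 (16384 + 2 ^ 12))
    ((Upto.of_pow defs_ok_c5 (Nat.le_refl _)) : Upto _ _ 20480 (20480 + 2 ^ 12)))))
    (Upto.trans (mid := 36864) (Upto.trans (mid := 28672) ((Upto.of_pow defs_ok_c6 (Nat.le_refl _)) : Upto _ _ 24576 (24576 + 2 ^ 12))
    (Upto.trans (mid := 32768) ((Upto.of_pow defs_ok_c7 (Nat.le_refl _)) : Upto _ _ 28672 (28672 + 2 ^ 12))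
    ((Upto.of_pow defs_ok_c8 (Nat.le_refl _)) : Upto _ _ 32768 (32768 + 2 ^ 12))))
    (Upto.trans (mid := 45056) (Upto.trans (mid := 40960) ((Upto.of_pow defs_ok_c9 (Nat.le_refl _)) : Upto _ _ 36864 (36864 + 2 ^ 12))
    ((Upto.of_pow defs_ok_c10 (Nat.le_refl _)) : Upto _ _ 40960 (40960 + 2 ^ 12)))
    (Upto.trans (mid := 49152) ((Upto.of_pow defs_ok_c11 (Nat.le_refl _)) : Upto _ _ 45056 (45056 + 2 ^ 12))
    ((Upto.of_pow defs_ok_c12 (Nat.le_refl _)) : Upto _ _ 49152 (49152 + 2 ^ 12))))))
    (by decide) (by decide)

theorem final1_c0 : allPow 49980 (finalStep fact node item1 T1 176388 1 49980) 10 0 = true := by decide +kernel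
theorem final1_c1 : allPow 49980 (finalStep fact node item1 T1 176388 1 49980) 10 1024 = true := by decide +kernel
theorem final1_c2 : allPow 49980 (finalStep fact node item1 T1 176388 1 49980) 10 2048 = true := by decide +kernel
theorem final1_c3 : allPow 49980 (finalStep fact node item1 T1 176388 1 49980) 10 3072 = true := by decide +kernel
theorem final1_c4 : allPow 49980 (finalStep fact node item1 T1 176388 1 49980) 10 4096 = true := by decide +kernel
theorem final1_c5 : allPow 49980 (finalStep fact node item1 T1 176388 1 49980) 10 5120 = true := by decide +kernel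
theorem final1_c6 : allPow 49980 (finalStep fact node item1 T1 176388 1 49980) 10 6144 = true := by decide +kernel
theorem final1_c7 : allPow 49980 (finalStep fact node item1 T1 176388 1 49980) 10 7168 = true := by decide +kernel
theorem final1_c8 : allPow 49980 (finalStep fact node item1 T1 176388 1 49980) 10 8192 = true := by decide +kernel
theorem final1_c9 : allPow 49980 (finalStep fact node item1 T1 176388 1 49980) 10 9216 = true := by decide +kernel
theorem final1_c10 : allPow 49980 (finalStep fact node item1 T1 176388 1 49980) 10 10240 = true := by decide +kernel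
theorem final1_c11 : allPow 49980 (finalStep fact node item1 T1 176388 1 49980) 10 11264 = true := by decide +kernel
theorem final1_c12 : allPow 49980 (finalStep fact node item1 T1 176388 1 49980) 10 12288 = true := by decide +kernel
theorem final1_c13 : allPow 49980 (finalStep fact node item1 T1 176388 1 49980) 10 13312 = true := by decide +kernel
theorem final1_c14 : allPow 49980 (finalStep fact node item1 T1 176388 1 49980) 10 14336 = true := by decide +kernel
theorem final1_c15 : allPow 49980 (finalStep fact node item1 T1 176388 1 49980) 10 15360 = true := by decide +kernel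
theorem final1_c16 : allPow 49980 (finalStep fact node item1 T1 176388 1 49980) 10 16384 = true := by decide +kernel
theorem final1_c17 : allPow 49980 (finalStep fact node item1 T1 176388 1 49980) 10 17408 = true := by decide +kernel
theorem final1_c18 : allPow 49980 (finalStep fact node item1 T1 176388 1 49980) 10 18432 = true := by decide +kernel
theorem final1_c19 : allPow 49980 (finalStep fact node item1 T1 176388 1 49980) 10 19456 = true := by decide +kernel
theorem final1_c20 : allPow 49980 (finalStep fact node item1 T1 176388 1 49980) 10 20480 = true := by decide +kernel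
theorem final1_c21 : allPow 49980 (finalStep fact node item1 T1 176388 1 49980) 10 21504 = true := by decide +kernel
theorem final1_c22 : allPow 49980 (finalStep fact node item1 T1 176388 1 49980) 10 22528 = true := by decide +kernel
theorem final1_c23 : allPow 49980 (finalStep fact node item1 T1 176388 1 49980) 10 23552 = true := by decide +kernel
theorem final1_c24 : allPow 49980 (finalStep fact node item1 T1 176388 1 49980) 10 24576 = true := by decide +kernel
theorem final1_c25 : allPow 49980 (finalStep fact node item1 T1 176388 1 49980) 10 25600 = true := by decide +kernel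
theorem final1_c26 : allPow 49980 (finalStep fact node item1 T1 176388 1 49980) 10 26624 = true := by decide +kernel
theorem final1_c27 : allPow 49980 (finalStep fact node item1 T1 176388 1 49980) 10 27648 = true := by decide +kernel
theorem final1_c28 : allPow 49980 (finalStep fact node item1 T1 176388 1 49980) 10 28672 = true := by decide +kernel
theorem final1_c29 : allPow 49980 (finalStep fact node item1 T1 176388 1 49980) 10 29696 = true := by decide +kernel
theorem final1_c30 : allPow 49980 (finalStep fact node item1 T1 176388 1 49980) 10 30720 = true := by decide +kernel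
theorem final1_c31 : allPow 49980 (finalStep fact node item1 T1 176388 1 49980) 10 31744 = true := by decide +kernel
theorem final1_c32 : allPow 49980 (finalStep fact node item1 T1 176388 1 49980) 10 32768 = true := by decide +kernel
theorem final1_c33 : allPow 49980 (finalStep fact node item1 T1 176388 1 49980) 10 33792 = true := by decide +kernel
theorem final1_c34 : allPow 49980 (finalStep fact node item1 T1 176388 1 49980) 10 34816 = true := by decide +kernel
theorem final1_c35 : allPow 49980 (finalStep fact node item1 T1 176388 1 49980) 10 35840 = true := by decide +kernel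
theorem final1_c36 : allPow 49980 (finalStep fact node item1 T1 176388 1 49980) 10 36864 = true := by decide +kernel
theorem final1_c37 : allPow 49980 (finalStep fact node item1 T1 176388 1 49980) 10 37888 = true := by decide +kernel
theorem final1_c38 : allPow 49980 (finalStep fact node item1 T1 176388 1 49980) 10 38912 = true := by decide +kernel
theorem final1_c39 : allPow 49980 (finalStep fact node item1 T1 176388 1 49980) 10 39936 = true := by decide +kernel
theorem final1_c40 : allPow 49980 (finalStep fact node item1 T1 176388 1 49980) 10 40960 = true := by decide +kernel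
theorem final1_c41 : allPow 49980 (finalStep fact node item1 T1 176388 1 49980) 10 41984 = true := by decide +kernel
theorem final1_c42 : allPow 49980 (finalStep fact node item1 T1 176388 1 49980) 10 43008 = true := by decide +kernel
theorem final1_c43 : allPow 49980 (finalStep fact node item1 T1 176388 1 49980) 10 44032 = true := by decide +kernel
theorem final1_c44 : allPow 49980 (finalStep fact node item1 T1 176388 1 49980) 10 45056 = true := by decide +kernel
theorem final1_c45 : allPow 49980 (finalStep fact node item1 T1 176388 1 49980) 10 46080 = true := by decide +kernel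
theorem final1_c46 : allPow 49980 (finalStep fact node item1 T1 176388 1 49980) 10 47104 = true := by decide +kernel
theorem final1_c47 : allPow 49980 (finalStep fact node item1 T1 176388 1 49980) 10 48128 = true := by decide +kernel
theorem final1_c48 : allPow 49980 (finalStep fact node item1 T1 176388 1 49980) 10 49152 = true := by decide +kernel
theorem final1 : allBelow 16 49980 (finalStep fact node item1 T1 176388 1 49980) = true :=
  allBelow_of_upto (hi := 50176)
    (Upto.trans (mid := 24576) (Upto.trans (mid := 12288) (Upto.trans (mid := 6144) (Upto.trans (mid := 3072) (Upto.trans (mid := 1024) ((Upto.of_pow final1_c0 (Nat.le_refl _)) : Upto _ _ 0 (0 + 2 ^ 10))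
    (Upto.trans (mid := 2048) ((Upto.of_pow final1_c1 (Nat.le_refl _)) : Upto _ _ 1024 (1024 + 2 ^ 10))
    ((Upto.of_pow final1_c2 (Nat.le_refl _)) : Upto _ _ 2048 (2048 + 2 ^ 10))))
    (Upto.trans (mid := 4096) ((Upto.of_pow final1_c3 (Nat.le_refl _)) : Upto _ _ 3072 (3072 + 2 ^ 10))
    (Upto.trans (mid := 5120) ((Upto.of_pow final1_c4 (Nat.le_refl _)) : Upto _ _ 4096 (4096 + 2 ^ 10))
    ((Upto.of_pow final1_c5 (Nat.le_refl _)) : Upto _ _ 5120 (5120 + 2 ^ 10)))))
    (Upto.trans (mid := 9216) (Upto.trans (mid := 7168) ((Upto.of_pow final1_c6 (Nat.le_refl _)) : Upto _ _ 6144 (6144 + 2 ^ 10))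
    (Upto.trans (mid := 8192) ((Upto.of_pow final1_c7 (Nat.le_refl _)) : Upto _ _ 7168 (7168 + 2 ^ 10))
    ((Upto.of_pow final1_c8 (Nat.le_refl _)) : Upto _ _ 8192 (8192 + 2 ^ 10))))
    (Upto.trans (mid := 10240) ((Upto.of_pow final1_c9 (Nat.le_refl _)) : Upto _ _ 9216 (9216 + 2 ^ 10))
    (Upto.trans (mid := 11264) ((Upto.of_pow final1_c10 (Nat.le_refl _)) : Upto _ _ 10240 (10240 + 2 ^ 10))
    ((Upto.of_pow final1_c11 (Nat.le_refl _)) : Upto _ _ 11264 (11264 + 2 ^ 10))))))
    (Upto.trans (mid := 18432) (Upto.trans (mid := 15360) (Upto.trans (mid := 13312) ((Upto.of_pow final1_c12 (Nat.le_refl _)) : Upto _ _ 12288 (12288 + 2 ^ 10))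
    (Upto.trans (mid := 14336) ((Upto.of_pow final1_c13 (Nat.le_refl _)) : Upto _ _ 13312 (13312 + 2 ^ 10))
    ((Upto.of_pow final1_c14 (Nat.le_refl _)) : Upto _ _ 14336 (14336 + 2 ^ 10))))
    (Upto.trans (mid := 16384) ((Upto.of_pow final1_c15 (Nat.le_refl _)) : Upto _ _ 15360 (15360 + 2 ^ 10))
    (Upto.trans (mid := 17408) ((Upto.of_pow final1_c16 (Nat.le_refl _)) : Upto _ _ 16384 (16384 + 2 ^ 10))
    ((Upto.of_pow final1_c17 (Nat.le_refl _)) : Upto _ _ 17408 (17408 + 2 ^ 10)))))
    (Upto.trans (mid := 21504) (Upto.trans (mid := 19456) ((Upto.of_pow final1_c18 (Nat.le_refl _)) : Upto _ _ 18432 (18432 + 2 ^ 10))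
    (Upto.trans (mid := 20480) ((Upto.of_pow final1_c19 (Nat.le_refl _)) : Upto _ _ 19456 (19456 + 2 ^ 10))
    ((Upto.of_pow final1_c20 (Nat.le_refl _)) : Upto _ _ 20480 (20480 + 2 ^ 10))))
    (Upto.trans (mid := 22528) ((Upto.of_pow final1_c21 (Nat.le_refl _)) : Upto _ _ 21504 (21504 + 2 ^ 10))
    (Upto.trans (mid := 23552) ((Upto.of_pow final1_c22 (Nat.le_refl _)) : Upto _ _ 22528 (22528 + 2 ^ 10))
    ((Upto.of_pow final1_c23 (Nat.le_refl _)) : Upto _ _ 23552 (23552 + 2 ^ 10)))))))
    (Upto.trans (mid := 36864) (Upto.trans (mid := 30720) (Upto.trans (mid := 27648) (Upto.trans (mid := 25600) ((Upto.of_pow final1_c24 (Nat.le_refl _)) : Upto _ _ 24576 (24576 + 2 ^ 10))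
    (Upto.trans (mid := 26624) ((Upto.of_pow final1_c25 (Nat.le_refl _)) : Upto _ _ 25600 (25600 + 2 ^ 10))
    ((Upto.of_pow final1_c26 (Nat.le_refl _)) : Upto _ _ 26624 (26624 + 2 ^ 10))))
    (Upto.trans (mid := 28672) ((Upto.of_pow final1_c27 (Nat.le_refl _)) : Upto _ _ 27648 (27648 + 2 ^ 10))
    (Upto.trans (mid := 29696) ((Upto.of_pow final1_c28 (Nat.le_refl _)) : Upto _ _ 28672 (28672 + 2 ^ 10))
    ((Upto.of_pow final1_c29 (Nat.le_refl _)) : Upto _ _ 29696 (29696 + 2 ^ 10)))))
    (Upto.trans (mid := 33792) (Upto.trans (mid := 31744) ((Upto.of_pow final1_c30 (Nat.le_refl _)) : Upto _ _ 30720 (30720 + 2 ^ 10))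
    (Upto.trans (mid := 32768) ((Upto.of_pow final1_c31 (Nat.le_refl _)) : Upto _ _ 31744 (31744 + 2 ^ 10))
    ((Upto.of_pow final1_c32 (Nat.le_refl _)) : Upto _ _ 32768 (32768 + 2 ^ 10))))
    (Upto.trans (mid := 34816) ((Upto.of_pow final1_c33 (Nat.le_refl _)) : Upto _ _ 33792 (33792 + 2 ^ 10))
    (Upto.trans (mid := 35840) ((Upto.of_pow final1_c34 (Nat.le_refl _)) : Upto _ _ 34816 (34816 + 2 ^ 10))
    ((Upto.of_pow final1_c35 (Nat.le_refl _)) : Upto _ _ 35840 (35840 + 2 ^ 10))))))
    (Upto.trans (mid := 43008) (Upto.trans (mid := 39936) (Upto.trans (mid := 37888) ((Upto.of_pow final1_c36 (Nat.le_refl _)) : Upto _ _ 36864 (36864 + 2 ^ 10))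
    (Upto.trans (mid := 38912) ((Upto.of_pow final1_c37 (Nat.le_refl _)) : Upto _ _ 37888 (37888 + 2 ^ 10))
    ((Upto.of_pow final1_c38 (Nat.le_refl _)) : Upto _ _ 38912 (38912 + 2 ^ 10))))
    (Upto.trans (mid := 40960) ((Upto.of_pow final1_c39 (Nat.le_refl _)) : Upto _ _ 39936 (39936 + 2 ^ 10))
    (Upto.trans (mid := 41984) ((Upto.of_pow final1_c40 (Nat.le_refl _)) : Upto _ _ 40960 (40960 + 2 ^ 10))
    ((Upto.of_pow final1_c41 (Nat.le_refl _)) : Upto _ _ 41984 (41984 + 2 ^ 10)))))
    (Upto.trans (mid := 46080) (Upto.trans (mid := 44032) ((Upto.of_pow final1_c42 (Nat.le_refl _)) : Upto _ _ 43008 (43008 + 2 ^ 10))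
    (Upto.trans (mid := 45056) ((Upto.of_pow final1_c43 (Nat.le_refl _)) : Upto _ _ 44032 (44032 + 2 ^ 10))
    ((Upto.of_pow final1_c44 (Nat.le_refl _)) : Upto _ _ 45056 (45056 + 2 ^ 10))))
    (Upto.trans (mid := 48128) (Upto.trans (mid := 47104) ((Upto.of_pow final1_c45 (Nat.le_refl _)) : Upto _ _ 46080 (46080 + 2 ^ 10))
    ((Upto.of_pow final1_c46 (Nat.le_refl _)) : Upto _ _ 47104 (47104 + 2 ^ 10)))
    (Upto.trans (mid := 49152) ((Upto.of_pow final1_c47 (Nat.le_refl _)) : Upto _ _ 48128 (48128 + 2 ^ 10))
    ((Upto.of_pow final1_c48 (Nat.le_refl _)) : Upto _ _ 49152 (49152 + 2 ^ 10))))))))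
    (by decide) (by decide)

theorem final2_c0 : allPow 49980 (finalStep fact node item2 T2 176388 2 49980) 10 0 = true := by decide +kernel
theorem final2_c1 : allPow 49980 (finalStep fact node item2 T2 176388 2 49980) 10 1024 = true := by decide +kernel
theorem final2_c2 : allPow 49980 (finalStep fact node item2 T2 176388 2 49980) 10 2048 = true := by decide +kernel
theorem final2_c3 : allPow 49980 (finalStep fact node item2 T2 176388 2 49980) 10 3072 = true := by decide +kernel
theorem final2_c4 : allPow 49980 (finalStep fact node item2 T2 176388 2 49980) 10 4096 = true := by decide +kernel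
theorem final2_c5 : allPow 49980 (finalStep fact node item2 T2 176388 2 49980) 10 5120 = true := by decide +kernel
theorem final2_c6 : allPow 49980 (finalStep fact node item2 T2 176388 2 49980) 10 6144 = true := by decide +kernel
theorem final2_c7 : allPow 49980 (finalStep fact node item2 T2 176388 2 49980) 10 7168 = true := by decide +kernel
theorem final2_c8 : allPow 49980 (finalStep fact node item2 T2 176388 2 49980) 10 8192 = true := by decide +kernel
theorem final2_c9 : allPow 49980 (finalStep fact node item2 T2 176388 2 49980) 10 9216 = true := by decide +kernel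
theorem final2_c10 : allPow 49980 (finalStep fact node item2 T2 176388 2 49980) 10 10240 = true := by decide +kernel
theorem final2_c11 : allPow 49980 (finalStep fact node item2 T2 176388 2 49980) 10 11264 = true := by decide +kernel
theorem final2_c12 : allPow 49980 (finalStep fact node item2 T2 176388 2 49980) 10 12288 = true := by decide +kernel
theorem final2_c13 : allPow 49980 (finalStep fact node item2 T2 176388 2 49980) 10 13312 = true := by decide +kernel
theorem final2_c14 : allPow 49980 (finalStep fact node item2 T2 176388 2 49980) 10 14336 = true := by decide +kernel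
theorem final2_c15 : allPow 49980 (finalStep fact node item2 T2 176388 2 49980) 10 15360 = true := by decide +kernel
theorem final2_c16 : allPow 49980 (finalStep fact node item2 T2 176388 2 49980) 10 16384 = true := by decide +kernel
theorem final2_c17 : allPow 49980 (finalStep fact node item2 T2 176388 2 49980) 10 17408 = true := by decide +kernel
theorem final2_c18 : allPow 49980 (finalStep fact node item2 T2 176388 2 49980) 10 18432 = true := by decide +kernel
theorem final2_c19 : allPow 49980 (finalStep fact node item2 T2 176388 2 49980) 10 19456 = true := by decide +kernel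
theorem final2_c20 : allPow 49980 (finalStep fact node item2 T2 176388 2 49980) 10 20480 = true := by decide +kernel
theorem final2_c21 : allPow 49980 (finalStep fact node item2 T2 176388 2 49980) 10 21504 = true := by decide +kernel
theorem final2_c22 : allPow 49980 (finalStep fact node item2 T2 176388 2 49980) 10 22528 = true := by decide +kernel
theorem final2_c23 : allPow 49980 (finalStep fact node item2 T2 176388 2 49980) 10 23552 = true := by decide +kernel
theorem final2_c24 : allPow 49980 (finalStep fact node item2 T2 176388 2 49980) 10 24576 = true := by decide +kernel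
theorem final2_c25 : allPow 49980 (finalStep fact node item2 T2 176388 2 49980) 10 25600 = true := by decide +kernel
theorem final2_c26 : allPow 49980 (finalStep fact node item2 T2 176388 2 49980) 10 26624 = true := by decide +kernel
theorem final2_c27 : allPow 49980 (finalStep fact node item2 T2 176388 2 49980) 10 27648 = true := by decide +kernel
theorem final2_c28 : allPow 49980 (finalStep fact node item2 T2 176388 2 49980) 10 28672 = true := by decide +kernel
theorem final2_c29 : allPow 49980 (finalStep fact node item2 T2 176388 2 49980) 10 29696 = true := by decide +kernel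
theorem final2_c30 : allPow 49980 (finalStep fact node item2 T2 176388 2 49980) 10 30720 = true := by decide +kernel
theorem final2_c31 : allPow 49980 (finalStep fact node item2 T2 176388 2 49980) 10 31744 = true := by decide +kernel
theorem final2_c32 : allPow 49980 (finalStep fact node item2 T2 176388 2 49980) 10 32768 = true := by decide +kernel
theorem final2_c33 : allPow 49980 (finalStep fact node item2 T2 176388 2 49980) 10 33792 = true := by decide +kernel
theorem final2_c34 : allPow 49980 (finalStep fact node item2 T2 176388 2 49980) 10 34816 = true := by decide +kernel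
theorem final2_c35 : allPow 49980 (finalStep fact node item2 T2 176388 2 49980) 10 35840 = true := by decide +kernel
theorem final2_c36 : allPow 49980 (finalStep fact node item2 T2 176388 2 49980) 10 36864 = true := by decide +kernel
theorem final2_c37 : allPow 49980 (finalStep fact node item2 T2 176388 2 49980) 10 37888 = true := by decide +kernel
theorem final2_c38 : allPow 49980 (finalStep fact node item2 T2 176388 2 49980) 10 38912 = true := by decide +kernel
theorem final2_c39 : allPow 49980 (finalStep fact node item2 T2 176388 2 49980) 10 39936 = true := by decide +kernel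
theorem final2_c40 : allPow 49980 (finalStep fact node item2 T2 176388 2 49980) 10 40960 = true := by decide +kernel
theorem final2_c41 : allPow 49980 (finalStep fact node item2 T2 176388 2 49980) 10 41984 = true := by decide +kernel
theorem final2_c42 : allPow 49980 (finalStep fact node item2 T2 176388 2 49980) 10 43008 = true := by decide +kernel
theorem final2_c43 : allPow 49980 (finalStep fact node item2 T2 176388 2 49980) 10 44032 = true := by decide +kernel
theorem final2_c44 : allPow 49980 (finalStep fact node item2 T2 176388 2 49980) 10 45056 = true := by decide +kernel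
theorem final2_c45 : allPow 49980 (finalStep fact node item2 T2 176388 2 49980) 10 46080 = true := by decide +kernel
theorem final2_c46 : allPow 49980 (finalStep fact node item2 T2 176388 2 49980) 10 47104 = true := by decide +kernel
theorem final2_c47 : allPow 49980 (finalStep fact node item2 T2 176388 2 49980) 10 48128 = true := by decide +kernel
theorem final2_c48 : allPow 49980 (finalStep fact node item2 T2 176388 2 49980) 10 49152 = true := by decide +kernel
theorem final2 : allBelow 16 49980 (finalStep fact node item2 T2 176388 2 49980) = true :=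
  allBelow_of_upto (hi := 50176)
    (Upto.trans (mid := 24576) (Upto.trans (mid := 12288) (Upto.trans (mid := 6144) (Upto.trans (mid := 3072) (Upto.trans (mid := 1024) ((Upto.of_pow final2_c0 (Nat.le_refl _)) : Upto _ _ 0 (0 + 2 ^ 10))
    (Upto.trans (mid := 2048) ((Upto.of_pow final2_c1 (Nat.le_refl _)) : Upto _ _ 1024 (1024 + 2 ^ 10))
    ((Upto.of_pow final2_c2 (Nat.le_refl _)) : Upto _ _ 2048 (2048 + 2 ^ 10))))
    (Upto.trans (mid := 4096) ((Upto.of_pow final2_c3 (Nat.le_refl _)) : Upto _ _ 3072 (3072 + 2 ^ 10))
    (Upto.trans (mid := 5120) ((Upto.of_pow final2_c4 (Nat.le_refl _)) : Upto _ _ 4096 (4096 + 2 ^ 10))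
    ((Upto.of_pow final2_c5 (Nat.le_refl _)) : Upto _ _ 5120 (5120 + 2 ^ 10)))))
    (Upto.trans (mid := 9216) (Upto.trans (mid := 7168) ((Upto.of_pow final2_c6 (Nat.le_refl _)) : Upto _ _ 6144 (6144 + 2 ^ 10))
    (Upto.trans (mid := 8192) ((Upto.of_pow final2_c7 (Nat.le_refl _)) : Upto _ _ 7168 (7168 + 2 ^ 10))
    ((Upto.of_pow final2_c8 (Nat.le_refl _)) : Upto _ _ 8192 (8192 + 2 ^ 10))))
    (Upto.trans (mid := 10240) ((Upto.of_pow final2_c9 (Nat.le_refl _)) : Upto _ _ 9216 (9216 + 2 ^ 10))
    (Upto.trans (mid := 11264) ((Upto.of_pow final2_c10 (Nat.le_refl _)) : Upto _ _ 10240 (10240 + 2 ^ 10))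
    ((Upto.of_pow final2_c11 (Nat.le_refl _)) : Upto _ _ 11264 (11264 + 2 ^ 10))))))
    (Upto.trans (mid := 18432) (Upto.trans (mid := 15360) (Upto.trans (mid := 13312) ((Upto.of_pow final2_c12 (Nat.le_refl _)) : Upto _ _ 12288 (12288 + 2 ^ 10))
    (Upto.trans (mid := 14336) ((Upto.of_pow final2_c13 (Nat.le_refl _)) : Upto _ _ 13312 (13312 + 2 ^ 10))
    ((Upto.of_pow final2_c14 (Nat.le_refl _)) : Upto _ _ 14336 (14336 + 2 ^ 10))))
    (Upto.trans (mid := 16384) ((Upto.of_pow final2_c15 (Nat.le_refl _)) : Upto _ _ 15360 (15360 + 2 ^ 10))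
    (Upto.trans (mid := 17408) ((Upto.of_pow final2_c16 (Nat.le_refl _)) : Upto _ _ 16384 (16384 + 2 ^ 10))
    ((Upto.of_pow final2_c17 (Nat.le_refl _)) : Upto _ _ 17408 (17408 + 2 ^ 10)))))
    (Upto.trans (mid := 21504) (Upto.trans (mid := 19456) ((Upto.of_pow final2_c18 (Nat.le_refl _)) : Upto _ _ 18432 (18432 + 2 ^ 10))
    (Upto.trans (mid := 20480) ((Upto.of_pow final2_c19 (Nat.le_refl _)) : Upto _ _ 19456 (19456 + 2 ^ 10))
    ((Upto.of_pow final2_c20 (Nat.le_refl _)) : Upto _ _ 20480 (20480 + 2 ^ 10))))
    (Upto.trans (mid := 22528) ((Upto.of_pow final2_c21 (Nat.le_refl _)) : Upto _ _ 21504 (21504 + 2 ^ 10))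
    (Upto.trans (mid := 23552) ((Upto.of_pow final2_c22 (Nat.le_refl _)) : Upto _ _ 22528 (22528 + 2 ^ 10))
    ((Upto.of_pow final2_c23 (Nat.le_refl _)) : Upto _ _ 23552 (23552 + 2 ^ 10)))))))
    (Upto.trans (mid := 36864) (Upto.trans (mid := 30720) (Upto.trans (mid := 27648) (Upto.trans (mid := 25600) ((Upto.of_pow final2_c24 (Nat.le_refl _)) : Upto _ _ 24576 (24576 + 2 ^ 10))
    (Upto.trans (mid := 26624) ((Upto.of_pow final2_c25 (Nat.le_refl _)) : Upto _ _ 25600 (25600 + 2 ^ 10))
    ((Upto.of_pow final2_c26 (Nat.le_refl _)) : Upto _ _ 26624 (26624 + 2 ^ 10))))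
    (Upto.trans (mid := 28672) ((Upto.of_pow final2_c27 (Nat.le_refl _)) : Upto _ _ 27648 (27648 + 2 ^ 10))
    (Upto.trans (mid := 29696) ((Upto.of_pow final2_c28 (Nat.le_refl _)) : Upto _ _ 28672 (28672 + 2 ^ 10))
    ((Upto.of_pow final2_c29 (Nat.le_refl _)) : Upto _ _ 29696 (29696 + 2 ^ 10)))))
    (Upto.trans (mid := 33792) (Upto.trans (mid := 31744) ((Upto.of_pow final2_c30 (Nat.le_refl _)) : Upto _ _ 30720 (30720 + 2 ^ 10))
    (Upto.trans (mid := 32768) ((Upto.of_pow final2_c31 (Nat.le_refl _)) : Upto _ _ 31744 (31744 + 2 ^ 10))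
    ((Upto.of_pow final2_c32 (Nat.le_refl _)) : Upto _ _ 32768 (32768 + 2 ^ 10))))
    (Upto.trans (mid := 34816) ((Upto.of_pow final2_c33 (Nat.le_refl _)) : Upto _ _ 33792 (33792 + 2 ^ 10))
    (Upto.trans (mid := 35840) ((Upto.of_pow final2_c34 (Nat.le_refl _)) : Upto _ _ 34816 (34816 + 2 ^ 10))
    ((Upto.of_pow final2_c35 (Nat.le_refl _)) : Upto _ _ 35840 (35840 + 2 ^ 10))))))
    (Upto.trans (mid := 43008) (Upto.trans (mid := 39936) (Upto.trans (mid := 37888) ((Upto.of_pow final2_c36 (Nat.le_refl _)) : Upto _ _ 36864 (36864 + 2 ^ 10))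
    (Upto.trans (mid := 38912) ((Upto.of_pow final2_c37 (Nat.le_refl _)) : Upto _ _ 37888 (37888 + 2 ^ 10))
    ((Upto.of_pow final2_c38 (Nat.le_refl _)) : Upto _ _ 38912 (38912 + 2 ^ 10))))
    (Upto.trans (mid := 40960) ((Upto.of_pow final2_c39 (Nat.le_refl _)) : Upto _ _ 39936 (39936 + 2 ^ 10))
    (Upto.trans (mid := 41984) ((Upto.of_pow final2_c40 (Nat.le_refl _)) : Upto _ _ 40960 (40960 + 2 ^ 10))
    ((Upto.of_pow final2_c41 (Nat.le_refl _)) : Upto _ _ 41984 (41984 + 2 ^ 10)))))
    (Upto.trans (mid := 46080) (Upto.trans (mid := 44032) ((Upto.of_pow final2_c42 (Nat.le_refl _)) : Upto _ _ 43008 (43008 + 2 ^ 10))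
    (Upto.trans (mid := 45056) ((Upto.of_pow final2_c43 (Nat.le_refl _)) : Upto _ _ 44032 (44032 + 2 ^ 10))
    ((Upto.of_pow final2_c44 (Nat.le_refl _)) : Upto _ _ 45056 (45056 + 2 ^ 10))))
    (Upto.trans (mid := 48128) (Upto.trans (mid := 47104) ((Upto.of_pow final2_c45 (Nat.le_refl _)) : Upto _ _ 46080 (46080 + 2 ^ 10))
    ((Upto.of_pow final2_c46 (Nat.le_refl _)) : Upto _ _ 47104 (47104 + 2 ^ 10)))
    (Upto.trans (mid := 49152) ((Upto.of_pow final2_c47 (Nat.le_refl _)) : Upto _ _ 48128 (48128 + 2 ^ 10))
    ((Upto.of_pow final2_c48 (Nat.le_refl _)) : Upto _ _ 49152 (49152 + 2 ^ 10))))))))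
    (by decide) (by decide)

theorem final3_c0 : allPow 49980 (finalStep fact node item3 T3 176388 3 49980) 10 0 = true := by decide +kernel
theorem final3_c1 : allPow 49980 (finalStep fact node item3 T3 176388 3 49980) 10 1024 = true := by decide +kernel
theorem final3_c2 : allPow 49980 (finalStep fact node item3 T3 176388 3 49980) 10 2048 = true := by decide +kernel
theorem final3_c3 : allPow 49980 (finalStep fact node item3 T3 176388 3 49980) 10 3072 = true := by decide +kernel
theorem final3_c4 : allPow 49980 (finalStep fact node item3 T3 176388 3 49980) 10 4096 = true := by decide +kernel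
theorem final3_c5 : allPow 49980 (finalStep fact node item3 T3 176388 3 49980) 10 5120 = true := by decide +kernel
theorem final3_c6 : allPow 49980 (finalStep fact node item3 T3 176388 3 49980) 10 6144 = true := by decide +kernel
theorem final3_c7 : allPow 49980 (finalStep fact node item3 T3 176388 3 49980) 10 7168 = true := by decide +kernel
theorem final3_c8 : allPow 49980 (finalStep fact node item3 T3 176388 3 49980) 10 8192 = true := by decide +kernel
theorem final3_c9 : allPow 49980 (finalStep fact node item3 T3 176388 3 49980) 10 9216 = true := by decide +kernel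
theorem final3_c10 : allPow 49980 (finalStep fact node item3 T3 176388 3 49980) 10 10240 = true := by decide +kernel
theorem final3_c11 : allPow 49980 (finalStep fact node item3 T3 176388 3 49980) 10 11264 = true := by decide +kernel
theorem final3_c12 : allPow 49980 (finalStep fact node item3 T3 176388 3 49980) 10 12288 = true := by decide +kernel
theorem final3_c13 : allPow 49980 (finalStep fact node item3 T3 176388 3 49980) 10 13312 = true := by decide +kernel
theorem final3_c14 : allPow 49980 (finalStep fact node item3 T3 176388 3 49980) 10 14336 = true := by decide +kernel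
theorem final3_c15 : allPow 49980 (finalStep fact node item3 T3 176388 3 49980) 10 15360 = true := by decide +kernel
theorem final3_c16 : allPow 49980 (finalStep fact node item3 T3 176388 3 49980) 10 16384 = true := by decide +kernel
theorem final3_c17 : allPow 49980 (finalStep fact node item3 T3 176388 3 49980) 10 17408 = true := by decide +kernel
theorem final3_c18 : allPow 49980 (finalStep fact node item3 T3 176388 3 49980) 10 18432 = true := by decide +kernel
theorem final3_c19 : allPow 49980 (finalStep fact node item3 T3 176388 3 49980) 10 19456 = true := by decide +kernel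
theorem final3_c20 : allPow 49980 (finalStep fact node item3 T3 176388 3 49980) 10 20480 = true := by decide +kernel
theorem final3_c21 : allPow 49980 (finalStep fact node item3 T3 176388 3 49980) 10 21504 = true := by decide +kernel
theorem final3_c22 : allPow 49980 (finalStep fact node item3 T3 176388 3 49980) 10 22528 = true := by decide +kernel
theorem final3_c23 : allPow 49980 (finalStep fact node item3 T3 176388 3 49980) 10 23552 = true := by decide +kernel
theorem final3_c24 : allPow 49980 (finalStep fact node item3 T3 176388 3 49980) 10 24576 = true := by decide +kernel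
theorem final3_c25 : allPow 49980 (finalStep fact node item3 T3 176388 3 49980) 10 25600 = true := by decide +kernel
theorem final3_c26 : allPow 49980 (finalStep fact node item3 T3 176388 3 49980) 10 26624 = true := by decide +kernel
theorem final3_c27 : allPow 49980 (finalStep fact node item3 T3 176388 3 49980) 10 27648 = true := by decide +kernel
theorem final3_c28 : allPow 49980 (finalStep fact node item3 T3 176388 3 49980) 10 28672 = true := by decide +kernel
theorem final3_c29 : allPow 49980 (finalStep fact node item3 T3 176388 3 49980) 10 29696 = true := by decide +kernel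
theorem final3_c30 : allPow 49980 (finalStep fact node item3 T3 176388 3 49980) 10 30720 = true := by decide +kernel
theorem final3_c31 : allPow 49980 (finalStep fact node item3 T3 176388 3 49980) 10 31744 = true := by decide +kernel
theorem final3_c32 : allPow 49980 (finalStep fact node item3 T3 176388 3 49980) 10 32768 = true := by decide +kernel
theorem final3_c33 : allPow 49980 (finalStep fact node item3 T3 176388 3 49980) 10 33792 = true := by decide +kernel
theorem final3_c34 : allPow 49980 (finalStep fact node item3 T3 176388 3 49980) 10 34816 = true := by decide +kernel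
theorem final3_c35 : allPow 49980 (finalStep fact node item3 T3 176388 3 49980) 10 35840 = true := by decide +kernel
theorem final3_c36 : allPow 49980 (finalStep fact node item3 T3 176388 3 49980) 10 36864 = true := by decide +kernel
theorem final3_c37 : allPow 49980 (finalStep fact node item3 T3 176388 3 49980) 10 37888 = true := by decide +kernel
theorem final3_c38 : allPow 49980 (finalStep fact node item3 T3 176388 3 49980) 10 38912 = true := by decide +kernel
theorem final3_c39 : allPow 49980 (finalStep fact node item3 T3 176388 3 49980) 10 39936 = true := by decide +kernel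
theorem final3_c40 : allPow 49980 (finalStep fact node item3 T3 176388 3 49980) 10 40960 = true := by decide +kernel
theorem final3_c41 : allPow 49980 (finalStep fact node item3 T3 176388 3 49980) 10 41984 = true := by decide +kernel
theorem final3_c42 : allPow 49980 (finalStep fact node item3 T3 176388 3 49980) 10 43008 = true := by decide +kernel
theorem final3_c43 : allPow 49980 (finalStep fact node item3 T3 176388 3 49980) 10 44032 = true := by decide +kernel
theorem final3_c44 : allPow 49980 (finalStep fact node item3 T3 176388 3 49980) 10 45056 = true := by decide +kernel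
theorem final3_c45 : allPow 49980 (finalStep fact node item3 T3 176388 3 49980) 10 46080 = true := by decide +kernel
theorem final3_c46 : allPow 49980 (finalStep fact node item3 T3 176388 3 49980) 10 47104 = true := by decide +kernel
theorem final3_c47 : allPow 49980 (finalStep fact node item3 T3 176388 3 49980) 10 48128 = true := by decide +kernel
theorem final3_c48 : allPow 49980 (finalStep fact node item3 T3 176388 3 49980) 10 49152 = true := by decide +kernel
theorem final3 : allBelow 16 49980 (finalStep fact node item3 T3 176388 3 49980) = true :=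
  allBelow_of_upto (hi := 50176)
    (Upto.trans (mid := 24576) (Upto.trans (mid := 12288) (Upto.trans (mid := 6144) (Upto.trans (mid := 3072) (Upto.trans (mid := 1024) ((Upto.of_pow final3_c0 (Nat.le_refl _)) : Upto _ _ 0 (0 + 2 ^ 10))
    (Upto.trans (mid := 2048) ((Upto.of_pow final3_c1 (Nat.le_refl _)) : Upto _ _ 1024 (1024 + 2 ^ 10))
    ((Upto.of_pow final3_c2 (Nat.le_refl _)) : Upto _ _ 2048 (2048 + 2 ^ 10))))
    (Upto.trans (mid := 4096) ((Upto.of_pow final3_c3 (Nat.le_refl _)) : Upto _ _ 3072 (3072 + 2 ^ 10))
    (Upto.trans (mid := 5120) ((Upto.of_pow final3_c4 (Nat.le_refl _)) : Upto _ _ 4096 (4096 + 2 ^ 10))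
    ((Upto.of_pow final3_c5 (Nat.le_refl _)) : Upto _ _ 5120 (5120 + 2 ^ 10)))))
    (Upto.trans (mid := 9216) (Upto.trans (mid := 7168) ((Upto.of_pow final3_c6 (Nat.le_refl _)) : Upto _ _ 6144 (6144 + 2 ^ 10))
    (Upto.trans (mid := 8192) ((Upto.of_pow final3_c7 (Nat.le_refl _)) : Upto _ _ 7168 (7168 + 2 ^ 10))
    ((Upto.of_pow final3_c8 (Nat.le_refl _)) : Upto _ _ 8192 (8192 + 2 ^ 10))))
    (Upto.trans (mid := 10240) ((Upto.of_pow final3_c9 (Nat.le_refl _)) : Upto _ _ 9216 (9216 + 2 ^ 10))
    (Upto.trans (mid := 11264) ((Upto.of_pow final3_c10 (Nat.le_refl _)) : Upto _ _ 10240 (10240 + 2 ^ 10))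
    ((Upto.of_pow final3_c11 (Nat.le_refl _)) : Upto _ _ 11264 (11264 + 2 ^ 10))))))
    (Upto.trans (mid := 18432) (Upto.trans (mid := 15360) (Upto.trans (mid := 13312) ((Upto.of_pow final3_c12 (Nat.le_refl _)) : Upto _ _ 12288 (12288 + 2 ^ 10))
    (Upto.trans (mid := 14336) ((Upto.of_pow final3_c13 (Nat.le_refl _)) : Upto _ _ 13312 (13312 + 2 ^ 10))
    ((Upto.of_pow final3_c14 (Nat.le_refl _)) : Upto _ _ 14336 (14336 + 2 ^ 10))))
    (Upto.trans (mid := 16384) ((Upto.of_pow final3_c15 (Nat.le_refl _)) : Upto _ _ 15360 (15360 + 2 ^ 10))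
    (Upto.trans (mid := 17408) ((Upto.of_pow final3_c16 (Nat.le_refl _)) : Upto _ _ 16384 (16384 + 2 ^ 10))
    ((Upto.of_pow final3_c17 (Nat.le_refl _)) : Upto _ _ 17408 (17408 + 2 ^ 10)))))
    (Upto.trans (mid := 21504) (Upto.trans (mid := 19456) ((Upto.of_pow final3_c18 (Nat.le_refl _)) : Upto _ _ 18432 (18432 + 2 ^ 10))
    (Upto.trans (mid := 20480) ((Upto.of_pow final3_c19 (Nat.le_refl _)) : Upto _ _ 19456 (19456 + 2 ^ 10))
    ((Upto.of_pow final3_c20 (Nat.le_refl _)) : Upto _ _ 20480 (20480 + 2 ^ 10))))
    (Upto.trans (mid := 22528) ((Upto.of_pow final3_c21 (Nat.le_refl _)) : Upto _ _ 21504 (21504 + 2 ^ 10))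
    (Upto.trans (mid := 23552) ((Upto.of_pow final3_c22 (Nat.le_refl _)) : Upto _ _ 22528 (22528 + 2 ^ 10))
    ((Upto.of_pow final3_c23 (Nat.le_refl _)) : Upto _ _ 23552 (23552 + 2 ^ 10)))))))
    (Upto.trans (mid := 36864) (Upto.trans (mid := 30720) (Upto.trans (mid := 27648) (Upto.trans (mid := 25600) ((Upto.of_pow final3_c24 (Nat.le_refl _)) : Upto _ _ 24576 (24576 + 2 ^ 10))
    (Upto.trans (mid := 26624) ((Upto.of_pow final3_c25 (Nat.le_refl _)) : Upto _ _ 25600 (25600 + 2 ^ 10))
    ((Upto.of_pow final3_c26 (Nat.le_refl _)) : Upto _ _ 26624 (26624 + 2 ^ 10))))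
    (Upto.trans (mid := 28672) ((Upto.of_pow final3_c27 (Nat.le_refl _)) : Upto _ _ 27648 (27648 + 2 ^ 10))
    (Upto.trans (mid := 29696) ((Upto.of_pow final3_c28 (Nat.le_refl _)) : Upto _ _ 28672 (28672 + 2 ^ 10))
    ((Upto.of_pow final3_c29 (Nat.le_refl _)) : Upto _ _ 29696 (29696 + 2 ^ 10)))))
    (Upto.trans (mid := 33792) (Upto.trans (mid := 31744) ((Upto.of_pow final3_c30 (Nat.le_refl _)) : Upto _ _ 30720 (30720 + 2 ^ 10))
    (Upto.trans (mid := 32768) ((Upto.of_pow final3_c31 (Nat.le_refl _)) : Upto _ _ 31744 (31744 + 2 ^ 10))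
    ((Upto.of_pow final3_c32 (Nat.le_refl _)) : Upto _ _ 32768 (32768 + 2 ^ 10))))
    (Upto.trans (mid := 34816) ((Upto.of_pow final3_c33 (Nat.le_refl _)) : Upto _ _ 33792 (33792 + 2 ^ 10))
    (Upto.trans (mid := 35840) ((Upto.of_pow final3_c34 (Nat.le_refl _)) : Upto _ _ 34816 (34816 + 2 ^ 10))
    ((Upto.of_pow final3_c35 (Nat.le_refl _)) : Upto _ _ 35840 (35840 + 2 ^ 10))))))
    (Upto.trans (mid := 43008) (Upto.trans (mid := 39936) (Upto.trans (mid := 37888) ((Upto.of_pow final3_c36 (Nat.le_refl _)) : Upto _ _ 36864 (36864 + 2 ^ 10))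
    (Upto.trans (mid := 38912) ((Upto.of_pow final3_c37 (Nat.le_refl _)) : Upto _ _ 37888 (37888 + 2 ^ 10))
    ((Upto.of_pow final3_c38 (Nat.le_refl _)) : Upto _ _ 38912 (38912 + 2 ^ 10))))
    (Upto.trans (mid := 40960) ((Upto.of_pow final3_c39 (Nat.le_refl _)) : Upto _ _ 39936 (39936 + 2 ^ 10))
    (Upto.trans (mid := 41984) ((Upto.of_pow final3_c40 (Nat.le_refl _)) : Upto _ _ 40960 (40960 + 2 ^ 10))
    ((Upto.of_pow final3_c41 (Nat.le_refl _)) : Upto _ _ 41984 (41984 + 2 ^ 10)))))
    (Upto.trans (mid := 46080) (Upto.trans (mid := 44032) ((Upto.of_pow final3_c42 (Nat.le_refl _)) : Upto _ _ 43008 (43008 + 2 ^ 10))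
    (Upto.trans (mid := 45056) ((Upto.of_pow final3_c43 (Nat.le_refl _)) : Upto _ _ 44032 (44032 + 2 ^ 10))
    ((Upto.of_pow final3_c44 (Nat.le_refl _)) : Upto _ _ 45056 (45056 + 2 ^ 10))))
    (Upto.trans (mid := 48128) (Upto.trans (mid := 47104) ((Upto.of_pow final3_c45 (Nat.le_refl _)) : Upto _ _ 46080 (46080 + 2 ^ 10))
    ((Upto.of_pow final3_c46 (Nat.le_refl _)) : Upto _ _ 47104 (47104 + 2 ^ 10)))
    (Upto.trans (mid := 49152) ((Upto.of_pow final3_c47 (Nat.le_refl _)) : Upto _ _ 48128 (48128 + 2 ^ 10))
    ((Upto.of_pow final3_c48 (Nat.le_refl _)) : Upto _ _ 49152 (49152 + 2 ^ 10))))))))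
    (by decide) (by decide)

theorem final4_c0 : allPow 49980 (finalStep fact node item4 T4 176388 4 49980) 10 0 = true := by decide +kernel
theorem final4_c1 : allPow 49980 (finalStep fact node item4 T4 176388 4 49980) 10 1024 = true := by decide +kernel
theorem final4_c2 : allPow 49980 (finalStep fact node item4 T4 176388 4 49980) 10 2048 = true := by decide +kernel
theorem final4_c3 : allPow 49980 (finalStep fact node item4 T4 176388 4 49980) 10 3072 = true := by decide +kernel
theorem final4_c4 : allPow 49980 (finalStep fact node item4 T4 176388 4 49980) 10 4096 = true := by decide +kernel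
theorem final4_c5 : allPow 49980 (finalStep fact node item4 T4 176388 4 49980) 10 5120 = true := by decide +kernel
theorem final4_c6 : allPow 49980 (finalStep fact node item4 T4 176388 4 49980) 10 6144 = true := by decide +kernel
theorem final4_c7 : allPow 49980 (finalStep fact node item4 T4 176388 4 49980) 10 7168 = true := by decide +kernel
theorem final4_c8 : allPow 49980 (finalStep fact node item4 T4 176388 4 49980) 10 8192 = true := by decide +kernel
theorem final4_c9 : allPow 49980 (finalStep fact node item4 T4 176388 4 49980) 10 9216 = true := by decide +kernel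
theorem final4_c10 : allPow 49980 (finalStep fact node item4 T4 176388 4 49980) 10 10240 = true := by decide +kernel
theorem final4_c11 : allPow 49980 (finalStep fact node item4 T4 176388 4 49980) 10 11264 = true := by decide +kernel
theorem final4_c12 : allPow 49980 (finalStep fact node item4 T4 176388 4 49980) 10 12288 = true := by decide +kernel
theorem final4_c13 : allPow 49980 (finalStep fact node item4 T4 176388 4 49980) 10 13312 = true := by decide +kernel
theorem final4_c14 : allPow 49980 (finalStep fact node item4 T4 176388 4 49980) 10 14336 = true := by decide +kernel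
theorem final4_c15 : allPow 49980 (finalStep fact node item4 T4 176388 4 49980) 10 15360 = true := by decide +kernel
theorem final4_c16 : allPow 49980 (finalStep fact node item4 T4 176388 4 49980) 10 16384 = true := by decide +kernel
theorem final4_c17 : allPow 49980 (finalStep fact node item4 T4 176388 4 49980) 10 17408 = true := by decide +kernel
theorem final4_c18 : allPow 49980 (finalStep fact node item4 T4 176388 4 49980) 10 18432 = true := by decide +kernel
theorem final4_c19 : allPow 49980 (finalStep fact node item4 T4 176388 4 49980) 10 19456 = true := by decide +kernel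
theorem final4_c20 : allPow 49980 (finalStep fact node item4 T4 176388 4 49980) 10 20480 = true := by decide +kernel
theorem final4_c21 : allPow 49980 (finalStep fact node item4 T4 176388 4 49980) 10 21504 = true := by decide +kernel
theorem final4_c22 : allPow 49980 (finalStep fact node item4 T4 176388 4 49980) 10 22528 = true := by decide +kernel
theorem final4_c23 : allPow 49980 (finalStep fact node item4 T4 176388 4 49980) 10 23552 = true := by decide +kernel
theorem final4_c24 : allPow 49980 (finalStep fact node item4 T4 176388 4 49980) 10 24576 = true := by decide +kernel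
theorem final4_c25 : allPow 49980 (finalStep fact node item4 T4 176388 4 49980) 10 25600 = true := by decide +kernel
theorem final4_c26 : allPow 49980 (finalStep fact node item4 T4 176388 4 49980) 10 26624 = true := by decide +kernel
theorem final4_c27 : allPow 49980 (finalStep fact node item4 T4 176388 4 49980) 10 27648 = true := by decide +kernel
theorem final4_c28 : allPow 49980 (finalStep fact node item4 T4 176388 4 49980) 10 28672 = true := by decide +kernel
theorem final4_c29 : allPow 49980 (finalStep fact node item4 T4 176388 4 49980) 10 29696 = true := by decide +kernel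
theorem final4_c30 : allPow 49980 (finalStep fact node item4 T4 176388 4 49980) 10 30720 = true := by decide +kernel
theorem final4_c31 : allPow 49980 (finalStep fact node item4 T4 176388 4 49980) 10 31744 = true := by decide +kernel
theorem final4_c32 : allPow 49980 (finalStep fact node item4 T4 176388 4 49980) 10 32768 = true := by decide +kernel
theorem final4_c33 : allPow 49980 (finalStep fact node item4 T4 176388 4 49980) 10 33792 = true := by decide +kernel
theorem final4_c34 : allPow 49980 (finalStep fact node item4 T4 176388 4 49980) 10 34816 = true := by decide +kernel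
theorem final4_c35 : allPow 49980 (finalStep fact node item4 T4 176388 4 49980) 10 35840 = true := by decide +kernel
theorem final4_c36 : allPow 49980 (finalStep fact node item4 T4 176388 4 49980) 10 36864 = true := by decide +kernel
theorem final4_c37 : allPow 49980 (finalStep fact node item4 T4 176388 4 49980) 10 37888 = true := by decide +kernel
theorem final4_c38 : allPow 49980 (finalStep fact node item4 T4 176388 4 49980) 10 38912 = true := by decide +kernel
theorem final4_c39 : allPow 49980 (finalStep fact node item4 T4 176388 4 49980) 10 39936 = true := by decide +kernel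
theorem final4_c40 : allPow 49980 (finalStep fact node item4 T4 176388 4 49980) 10 40960 = true := by decide +kernel
theorem final4_c41 : allPow 49980 (finalStep fact node item4 T4 176388 4 49980) 10 41984 = true := by decide +kernel
theorem final4_c42 : allPow 49980 (finalStep fact node item4 T4 176388 4 49980) 10 43008 = true := by decide +kernel
theorem final4_c43 : allPow 49980 (finalStep fact node item4 T4 176388 4 49980) 10 44032 = true := by decide +kernel
theorem final4_c44 : allPow 49980 (finalStep fact node item4 T4 176388 4 49980) 10 45056 = true := by decide +kernel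
theorem final4_c45 : allPow 49980 (finalStep fact node item4 T4 176388 4 49980) 10 46080 = true := by decide +kernel
theorem final4_c46 : allPow 49980 (finalStep fact node item4 T4 176388 4 49980) 10 47104 = true := by decide +kernel
theorem final4_c47 : allPow 49980 (finalStep fact node item4 T4 176388 4 49980) 10 48128 = true := by decide +kernel
theorem final4_c48 : allPow 49980 (finalStep fact node item4 T4 176388 4 49980) 10 49152 = true := by decide +kernel
theorem final4 : allBelow 16 49980 (finalStep fact node item4 T4 176388 4 49980) = true :=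
  allBelow_of_upto (hi := 50176)
    (Upto.trans (mid := 24576) (Upto.trans (mid := 12288) (Upto.trans (mid := 6144) (Upto.trans (mid := 3072) (Upto.trans (mid := 1024) ((Upto.of_pow final4_c0 (Nat.le_refl _)) : Upto _ _ 0 (0 + 2 ^ 10))
    (Upto.trans (mid := 2048) ((Upto.of_pow final4_c1 (Nat.le_refl _)) : Upto _ _ 1024 (1024 + 2 ^ 10))
    ((Upto.of_pow final4_c2 (Nat.le_refl _)) : Upto _ _ 2048 (2048 + 2 ^ 10))))
    (Upto.trans (mid := 4096) ((Upto.of_pow final4_c3 (Nat.le_refl _)) : Upto _ _ 3072 (3072 + 2 ^ 10))
    (Upto.trans (mid := 5120) ((Upto.of_pow final4_c4 (Nat.le_refl _)) : Upto _ _ 4096 (4096 + 2 ^ 10))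
    ((Upto.of_pow final4_c5 (Nat.le_refl _)) : Upto _ _ 5120 (5120 + 2 ^ 10)))))
    (Upto.trans (mid := 9216) (Upto.trans (mid := 7168) ((Upto.of_pow final4_c6 (Nat.le_refl _)) : Upto _ _ 6144 (6144 + 2 ^ 10))
    (Upto.trans (mid := 8192) ((Upto.of_pow final4_c7 (Nat.le_refl _)) : Upto _ _ 7168 (7168 + 2 ^ 10))
    ((Upto.of_pow final4_c8 (Nat.le_refl _)) : Upto _ _ 8192 (8192 + 2 ^ 10))))
    (Upto.trans (mid := 10240) ((Upto.of_pow final4_c9 (Nat.le_refl _)) : Upto _ _ 9216 (9216 + 2 ^ 10))
    (Upto.trans (mid := 11264) ((Upto.of_pow final4_c10 (Nat.le_refl _)) : Upto _ _ 10240 (10240 + 2 ^ 10))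
    ((Upto.of_pow final4_c11 (Nat.le_refl _)) : Upto _ _ 11264 (11264 + 2 ^ 10))))))
    (Upto.trans (mid := 18432) (Upto.trans (mid := 15360) (Upto.trans (mid := 13312) ((Upto.of_pow final4_c12 (Nat.le_refl _)) : Upto _ _ 12288 (12288 + 2 ^ 10))
    (Upto.trans (mid := 14336) ((Upto.of_pow final4_c13 (Nat.le_refl _)) : Upto _ _ 13312 (13312 + 2 ^ 10))
    ((Upto.of_pow final4_c14 (Nat.le_refl _)) : Upto _ _ 14336 (14336 + 2 ^ 10))))
    (Upto.trans (mid := 16384) ((Upto.of_pow final4_c15 (Nat.le_refl _)) : Upto _ _ 15360 (15360 + 2 ^ 10))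
    (Upto.trans (mid := 17408) ((Upto.of_pow final4_c16 (Nat.le_refl _)) : Upto _ _ 16384 (16384 + 2 ^ 10))
    ((Upto.of_pow final4_c17 (Nat.le_refl _)) : Upto _ _ 17408 (17408 + 2 ^ 10)))))
    (Upto.trans (mid := 21504) (Upto.trans (mid := 19456) ((Upto.of_pow final4_c18 (Nat.le_refl _)) : Upto _ _ 18432 (18432 + 2 ^ 10))
    (Upto.trans (mid := 20480) ((Upto.of_pow final4_c19 (Nat.le_refl _)) : Upto _ _ 19456 (19456 + 2 ^ 10))
    ((Upto.of_pow final4_c20 (Nat.le_refl _)) : Upto _ _ 20480 (20480 + 2 ^ 10))))
    (Upto.trans (mid := 22528) ((Upto.of_pow final4_c21 (Nat.le_refl _)) : Upto _ _ 21504 (21504 + 2 ^ 10))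
    (Upto.trans (mid := 23552) ((Upto.of_pow final4_c22 (Nat.le_refl _)) : Upto _ _ 22528 (22528 + 2 ^ 10))
    ((Upto.of_pow final4_c23 (Nat.le_refl _)) : Upto _ _ 23552 (23552 + 2 ^ 10)))))))
    (Upto.trans (mid := 36864) (Upto.trans (mid := 30720) (Upto.trans (mid := 27648) (Upto.trans (mid := 25600) ((Upto.of_pow final4_c24 (Nat.le_refl _)) : Upto _ _ 24576 (24576 + 2 ^ 10))
    (Upto.trans (mid := 26624) ((Upto.of_pow final4_c25 (Nat.le_refl _)) : Upto _ _ 25600 (25600 + 2 ^ 10))
    ((Upto.of_pow final4_c26 (Nat.le_refl _)) : Upto _ _ 26624 (26624 + 2 ^ 10))))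
    (Upto.trans (mid := 28672) ((Upto.of_pow final4_c27 (Nat.le_refl _)) : Upto _ _ 27648 (27648 + 2 ^ 10))
    (Upto.trans (mid := 29696) ((Upto.of_pow final4_c28 (Nat.le_refl _)) : Upto _ _ 28672 (28672 + 2 ^ 10))
    ((Upto.of_pow final4_c29 (Nat.le_refl _)) : Upto _ _ 29696 (29696 + 2 ^ 10)))))
    (Upto.trans (mid := 33792) (Upto.trans (mid := 31744) ((Upto.of_pow final4_c30 (Nat.le_refl _)) : Upto _ _ 30720 (30720 + 2 ^ 10))
    (Upto.trans (mid := 32768) ((Upto.of_pow final4_c31 (Nat.le_refl _)) : Upto _ _ 31744 (31744 + 2 ^ 10))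
    ((Upto.of_pow final4_c32 (Nat.le_refl _)) : Upto _ _ 32768 (32768 + 2 ^ 10))))
    (Upto.trans (mid := 34816) ((Upto.of_pow final4_c33 (Nat.le_refl _)) : Upto _ _ 33792 (33792 + 2 ^ 10))
    (Upto.trans (mid := 35840) ((Upto.of_pow final4_c34 (Nat.le_refl _)) : Upto _ _ 34816 (34816 + 2 ^ 10))
    ((Upto.of_pow final4_c35 (Nat.le_refl _)) : Upto _ _ 35840 (35840 + 2 ^ 10))))))
    (Upto.trans (mid := 43008) (Upto.trans (mid := 39936) (Upto.trans (mid := 37888) ((Upto.of_pow final4_c36 (Nat.le_refl _)) : Upto _ _ 36864 (36864 + 2 ^ 10))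
    (Upto.trans (mid := 38912) ((Upto.of_pow final4_c37 (Nat.le_refl _)) : Upto _ _ 37888 (37888 + 2 ^ 10))
    ((Upto.of_pow final4_c38 (Nat.le_refl _)) : Upto _ _ 38912 (38912 + 2 ^ 10))))
    (Upto.trans (mid := 40960) ((Upto.of_pow final4_c39 (Nat.le_refl _)) : Upto _ _ 39936 (39936 + 2 ^ 10))
    (Upto.trans (mid := 41984) ((Upto.of_pow final4_c40 (Nat.le_refl _)) : Upto _ _ 40960 (40960 + 2 ^ 10))
    ((Upto.of_pow final4_c41 (Nat.le_refl _)) : Upto _ _ 41984 (41984 + 2 ^ 10)))))
    (Upto.trans (mid := 46080) (Upto.trans (mid := 44032) ((Upto.of_pow final4_c42 (Nat.le_refl _)) : Upto _ _ 43008 (43008 + 2 ^ 10))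
    (Upto.trans (mid := 45056) ((Upto.of_pow final4_c43 (Nat.le_refl _)) : Upto _ _ 44032 (44032 + 2 ^ 10))
    ((Upto.of_pow final4_c44 (Nat.le_refl _)) : Upto _ _ 45056 (45056 + 2 ^ 10))))
    (Upto.trans (mid := 48128) (Upto.trans (mid := 47104) ((Upto.of_pow final4_c45 (Nat.le_refl _)) : Upto _ _ 46080 (46080 + 2 ^ 10))
    ((Upto.of_pow final4_c46 (Nat.le_refl _)) : Upto _ _ 47104 (47104 + 2 ^ 10)))
    (Upto.trans (mid := 49152) ((Upto.of_pow final4_c47 (Nat.le_refl _)) : Upto _ _ 48128 (48128 + 2 ^ 10))
    ((Upto.of_pow final4_c48 (Nat.le_refl _)) : Upto _ _ 49152 (49152 + 2 ^ 10))))))))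
    (by decide) (by decide)

theorem final5_c0 : allPow 49980 (finalStep fact node item5 T5 176388 5 49980) 10 0 = true := by decide +kernel
theorem final5_c1 : allPow 49980 (finalStep fact node item5 T5 176388 5 49980) 10 1024 = true := by decide +kernel
theorem final5_c2 : allPow 49980 (finalStep fact node item5 T5 176388 5 49980) 10 2048 = true := by decide +kernel
theorem final5_c3 : allPow 49980 (finalStep fact node item5 T5 176388 5 49980) 10 3072 = true := by decide +kernel
theorem final5_c4 : allPow 49980 (finalStep fact node item5 T5 176388 5 49980) 10 4096 = true := by decide +kernel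
theorem final5_c5 : allPow 49980 (finalStep fact node item5 T5 176388 5 49980) 10 5120 = true := by decide +kernel
theorem final5_c6 : allPow 49980 (finalStep fact node item5 T5 176388 5 49980) 10 6144 = true := by decide +kernel
theorem final5_c7 : allPow 49980 (finalStep fact node item5 T5 176388 5 49980) 10 7168 = true := by decide +kernel
theorem final5_c8 : allPow 49980 (finalStep fact node item5 T5 176388 5 49980) 10 8192 = true := by decide +kernel
theorem final5_c9 : allPow 49980 (finalStep fact node item5 T5 176388 5 49980) 10 9216 = true := by decide +kernel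
theorem final5_c10 : allPow 49980 (finalStep fact node item5 T5 176388 5 49980) 10 10240 = true := by decide +kernel
theorem final5_c11 : allPow 49980 (finalStep fact node item5 T5 176388 5 49980) 10 11264 = true := by decide +kernel
theorem final5_c12 : allPow 49980 (finalStep fact node item5 T5 176388 5 49980) 10 12288 = true := by decide +kernel
theorem final5_c13 : allPow 49980 (finalStep fact node item5 T5 176388 5 49980) 10 13312 = true := by decide +kernel
theorem final5_c14 : allPow 49980 (finalStep fact node item5 T5 176388 5 49980) 10 14336 = true := by decide +kernel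
theorem final5_c15 : allPow 49980 (finalStep fact node item5 T5 176388 5 49980) 10 15360 = true := by decide +kernel
theorem final5_c16 : allPow 49980 (finalStep fact node item5 T5 176388 5 49980) 10 16384 = true := by decide +kernel
theorem final5_c17 : allPow 49980 (finalStep fact node item5 T5 176388 5 49980) 10 17408 = true := by decide +kernel
theorem final5_c18 : allPow 49980 (finalStep fact node item5 T5 176388 5 49980) 10 18432 = true := by decide +kernel
theorem final5_c19 : allPow 49980 (finalStep fact node item5 T5 176388 5 49980) 10 19456 = true := by decide +kernel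
theorem final5_c20 : allPow 49980 (finalStep fact node item5 T5 176388 5 49980) 10 20480 = true := by decide +kernel
theorem final5_c21 : allPow 49980 (finalStep fact node item5 T5 176388 5 49980) 10 21504 = true := by decide +kernel
theorem final5_c22 : allPow 49980 (finalStep fact node item5 T5 176388 5 49980) 10 22528 = true := by decide +kernel
theorem final5_c23 : allPow 49980 (finalStep fact node item5 T5 176388 5 49980) 10 23552 = true := by decide +kernel
theorem final5_c24 : allPow 49980 (finalStep fact node item5 T5 176388 5 49980) 10 24576 = true := by decide +kernel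
theorem final5_c25 : allPow 49980 (finalStep fact node item5 T5 176388 5 49980) 10 25600 = true := by decide +kernel
theorem final5_c26 : allPow 49980 (finalStep fact node item5 T5 176388 5 49980) 10 26624 = true := by decide +kernel
theorem final5_c27 : allPow 49980 (finalStep fact node item5 T5 176388 5 49980) 10 27648 = true := by decide +kernel
theorem final5_c28 : allPow 49980 (finalStep fact node item5 T5 176388 5 49980) 10 28672 = true := by decide +kernel
theorem final5_c29 : allPow 49980 (finalStep fact node item5 T5 176388 5 49980) 10 29696 = true := by decide +kernel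
theorem final5_c30 : allPow 49980 (finalStep fact node item5 T5 176388 5 49980) 10 30720 = true := by decide +kernel
theorem final5_c31 : allPow 49980 (finalStep fact node item5 T5 176388 5 49980) 10 31744 = true := by decide +kernel
theorem final5_c32 : allPow 49980 (finalStep fact node item5 T5 176388 5 49980) 10 32768 = true := by decide +kernel
theorem final5_c33 : allPow 49980 (finalStep fact node item5 T5 176388 5 49980) 10 33792 = true := by decide +kernel
theorem final5_c34 : allPow 49980 (finalStep fact node item5 T5 176388 5 49980) 10 34816 = true := by decide +kernel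
theorem final5_c35 : allPow 49980 (finalStep fact node item5 T5 176388 5 49980) 10 35840 = true := by decide +kernel
theorem final5_c36 : allPow 49980 (finalStep fact node item5 T5 176388 5 49980) 10 36864 = true := by decide +kernel
theorem final5_c37 : allPow 49980 (finalStep fact node item5 T5 176388 5 49980) 10 37888 = true := by decide +kernel
theorem final5_c38 : allPow 49980 (finalStep fact node item5 T5 176388 5 49980) 10 38912 = true := by decide +kernel
theorem final5_c39 : allPow 49980 (finalStep fact node item5 T5 176388 5 49980) 10 39936 = true := by decide +kernel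
theorem final5_c40 : allPow 49980 (finalStep fact node item5 T5 176388 5 49980) 10 40960 = true := by decide +kernel
theorem final5_c41 : allPow 49980 (finalStep fact node item5 T5 176388 5 49980) 10 41984 = true := by decide +kernel
theorem final5_c42 : allPow 49980 (finalStep fact node item5 T5 176388 5 49980) 10 43008 = true := by decide +kernel
theorem final5_c43 : allPow 49980 (finalStep fact node item5 T5 176388 5 49980) 10 44032 = true := by decide +kernel
theorem final5_c44 : allPow 49980 (finalStep fact node item5 T5 176388 5 49980) 10 45056 = true := by decide +kernel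
theorem final5_c45 : allPow 49980 (finalStep fact node item5 T5 176388 5 49980) 10 46080 = true := by decide +kernel
theorem final5_c46 : allPow 49980 (finalStep fact node item5 T5 176388 5 49980) 10 47104 = true := by decide +kernel
theorem final5_c47 : allPow 49980 (finalStep fact node item5 T5 176388 5 49980) 10 48128 = true := by decide +kernel
theorem final5_c48 : allPow 49980 (finalStep fact node item5 T5 176388 5 49980) 10 49152 = true := by decide +kernel
theorem final5 : allBelow 16 49980 (finalStep fact node item5 T5 176388 5 49980) = true :=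
  allBelow_of_upto (hi := 50176)
    (Upto.trans (mid := 24576) (Upto.trans (mid := 12288) (Upto.trans (mid := 6144) (Upto.trans (mid := 3072) (Upto.trans (mid := 1024) ((Upto.of_pow final5_c0 (Nat.le_refl _)) : Upto _ _ 0 (0 + 2 ^ 10))
    (Upto.trans (mid := 2048) ((Upto.of_pow final5_c1 (Nat.le_refl _)) : Upto _ _ 1024 (1024 + 2 ^ 10))
    ((Upto.of_pow final5_c2 (Nat.le_refl _)) : Upto _ _ 2048 (2048 + 2 ^ 10))))
    (Upto.trans (mid := 4096) ((Upto.of_pow final5_c3 (Nat.le_refl _)) : Upto _ _ 3072 (3072 + 2 ^ 10))
    (Upto.trans (mid := 5120) ((Upto.of_pow final5_c4 (Nat.le_refl _)) : Upto _ _ 4096 (4096 + 2 ^ 10))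
    ((Upto.of_pow final5_c5 (Nat.le_refl _)) : Upto _ _ 5120 (5120 + 2 ^ 10)))))
    (Upto.trans (mid := 9216) (Upto.trans (mid := 7168) ((Upto.of_pow final5_c6 (Nat.le_refl _)) : Upto _ _ 6144 (6144 + 2 ^ 10))
    (Upto.trans (mid := 8192) ((Upto.of_pow final5_c7 (Nat.le_refl _)) : Upto _ _ 7168 (7168 + 2 ^ 10))
    ((Upto.of_pow final5_c8 (Nat.le_refl _)) : Upto _ _ 8192 (8192 + 2 ^ 10))))
    (Upto.trans (mid := 10240) ((Upto.of_pow final5_c9 (Nat.le_refl _)) : Upto _ _ 9216 (9216 + 2 ^ 10))
    (Upto.trans (mid := 11264) ((Upto.of_pow final5_c10 (Nat.le_refl _)) : Upto _ _ 10240 (10240 + 2 ^ 10))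
    ((Upto.of_pow final5_c11 (Nat.le_refl _)) : Upto _ _ 11264 (11264 + 2 ^ 10))))))
    (Upto.trans (mid := 18432) (Upto.trans (mid := 15360) (Upto.trans (mid := 13312) ((Upto.of_pow final5_c12 (Nat.le_refl _)) : Upto _ _ 12288 (12288 + 2 ^ 10))
    (Upto.trans (mid := 14336) ((Upto.of_pow final5_c13 (Nat.le_refl _)) : Upto _ _ 13312 (13312 + 2 ^ 10))
    ((Upto.of_pow final5_c14 (Nat.le_refl _)) : Upto _ _ 14336 (14336 + 2 ^ 10))))
    (Upto.trans (mid := 16384) ((Upto.of_pow final5_c15 (Nat.le_refl _)) : Upto _ _ 15360 (15360 + 2 ^ 10))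
    (Upto.trans (mid := 17408) ((Upto.of_pow final5_c16 (Nat.le_refl _)) : Upto _ _ 16384 (16384 + 2 ^ 10))
    ((Upto.of_pow final5_c17 (Nat.le_refl _)) : Upto _ _ 17408 (17408 + 2 ^ 10)))))
    (Upto.trans (mid := 21504) (Upto.trans (mid := 19456) ((Upto.of_pow final5_c18 (Nat.le_refl _)) : Upto _ _ 18432 (18432 + 2 ^ 10))
    (Upto.trans (mid := 20480) ((Upto.of_pow final5_c19 (Nat.le_refl _)) : Upto _ _ 19456 (19456 + 2 ^ 10))
    ((Upto.of_pow final5_c20 (Nat.le_refl _)) : Upto _ _ 20480 (20480 + 2 ^ 10))))
    (Upto.trans (mid := 22528) ((Upto.of_pow final5_c21 (Nat.le_refl _)) : Upto _ _ 21504 (21504 + 2 ^ 10))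
    (Upto.trans (mid := 23552) ((Upto.of_pow final5_c22 (Nat.le_refl _)) : Upto _ _ 22528 (22528 + 2 ^ 10))
    ((Upto.of_pow final5_c23 (Nat.le_refl _)) : Upto _ _ 23552 (23552 + 2 ^ 10)))))))
    (Upto.trans (mid := 36864) (Upto.trans (mid := 30720) (Upto.trans (mid := 27648) (Upto.trans (mid := 25600) ((Upto.of_pow final5_c24 (Nat.le_refl _)) : Upto _ _ 24576 (24576 + 2 ^ 10))
    (Upto.trans (mid := 26624) ((Upto.of_pow final5_c25 (Nat.le_refl _)) : Upto _ _ 25600 (25600 + 2 ^ 10))
    ((Upto.of_pow final5_c26 (Nat.le_refl _)) : Upto _ _ 26624 (26624 + 2 ^ 10))))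
    (Upto.trans (mid := 28672) ((Upto.of_pow final5_c27 (Nat.le_refl _)) : Upto _ _ 27648 (27648 + 2 ^ 10))
    (Upto.trans (mid := 29696) ((Upto.of_pow final5_c28 (Nat.le_refl _)) : Upto _ _ 28672 (28672 + 2 ^ 10))
    ((Upto.of_pow final5_c29 (Nat.le_refl _)) : Upto _ _ 29696 (29696 + 2 ^ 10)))))
    (Upto.trans (mid := 33792) (Upto.trans (mid := 31744) ((Upto.of_pow final5_c30 (Nat.le_refl _)) : Upto _ _ 30720 (30720 + 2 ^ 10))
    (Upto.trans (mid := 32768) ((Upto.of_pow final5_c31 (Nat.le_refl _)) : Upto _ _ 31744 (31744 + 2 ^ 10))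
    ((Upto.of_pow final5_c32 (Nat.le_refl _)) : Upto _ _ 32768 (32768 + 2 ^ 10))))
    (Upto.trans (mid := 34816) ((Upto.of_pow final5_c33 (Nat.le_refl _)) : Upto _ _ 33792 (33792 + 2 ^ 10))
    (Upto.trans (mid := 35840) ((Upto.of_pow final5_c34 (Nat.le_refl _)) : Upto _ _ 34816 (34816 + 2 ^ 10))
    ((Upto.of_pow final5_c35 (Nat.le_refl _)) : Upto _ _ 35840 (35840 + 2 ^ 10))))))
    (Upto.trans (mid := 43008) (Upto.trans (mid := 39936) (Upto.trans (mid := 37888) ((Upto.of_pow final5_c36 (Nat.le_refl _)) : Upto _ _ 36864 (36864 + 2 ^ 10))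
    (Upto.trans (mid := 38912) ((Upto.of_pow final5_c37 (Nat.le_refl _)) : Upto _ _ 37888 (37888 + 2 ^ 10))
    ((Upto.of_pow final5_c38 (Nat.le_refl _)) : Upto _ _ 38912 (38912 + 2 ^ 10))))
    (Upto.trans (mid := 40960) ((Upto.of_pow final5_c39 (Nat.le_refl _)) : Upto _ _ 39936 (39936 + 2 ^ 10))
    (Upto.trans (mid := 41984) ((Upto.of_pow final5_c40 (Nat.le_refl _)) : Upto _ _ 40960 (40960 + 2 ^ 10))
    ((Upto.of_pow final5_c41 (Nat.le_refl _)) : Upto _ _ 41984 (41984 + 2 ^ 10)))))
    (Upto.trans (mid := 46080) (Upto.trans (mid := 44032) ((Upto.of_pow final5_c42 (Nat.le_refl _)) : Upto _ _ 43008 (43008 + 2 ^ 10))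
    (Upto.trans (mid := 45056) ((Upto.of_pow final5_c43 (Nat.le_refl _)) : Upto _ _ 44032 (44032 + 2 ^ 10))
    ((Upto.of_pow final5_c44 (Nat.le_refl _)) : Upto _ _ 45056 (45056 + 2 ^ 10))))
    (Upto.trans (mid := 48128) (Upto.trans (mid := 47104) ((Upto.of_pow final5_c45 (Nat.le_refl _)) : Upto _ _ 46080 (46080 + 2 ^ 10))
    ((Upto.of_pow final5_c46 (Nat.le_refl _)) : Upto _ _ 47104 (47104 + 2 ^ 10)))
    (Upto.trans (mid := 49152) ((Upto.of_pow final5_c47 (Nat.le_refl _)) : Upto _ _ 48128 (48128 + 2 ^ 10))
    ((Upto.of_pow final5_c48 (Nat.le_refl _)) : Upto _ _ 49152 (49152 + 2 ^ 10))))))))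
    (by decide) (by decide)

theorem final6_c0 : allPow 49980 (finalStep fact node item6 T6 176388 6 49980) 10 0 = true := by decide +kernel
theorem final6_c1 : allPow 49980 (finalStep fact node item6 T6 176388 6 49980) 10 1024 = true := by decide +kernel
theorem final6_c2 : allPow 49980 (finalStep fact node item6 T6 176388 6 49980) 10 2048 = true := by decide +kernel
theorem final6_c3 : allPow 49980 (finalStep fact node item6 T6 176388 6 49980) 10 3072 = true := by decide +kernel
theorem final6_c4 : allPow 49980 (finalStep fact node item6 T6 176388 6 49980) 10 4096 = true := by decide +kernel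
theorem final6_c5 : allPow 49980 (finalStep fact node item6 T6 176388 6 49980) 10 5120 = true := by decide +kernel
theorem final6_c6 : allPow 49980 (finalStep fact node item6 T6 176388 6 49980) 10 6144 = true := by decide +kernel
theorem final6_c7 : allPow 49980 (finalStep fact node item6 T6 176388 6 49980) 10 7168 = true := by decide +kernel
theorem final6_c8 : allPow 49980 (finalStep fact node item6 T6 176388 6 49980) 10 8192 = true := by decide +kernel
theorem final6_c9 : allPow 49980 (finalStep fact node item6 T6 176388 6 49980) 10 9216 = true := by decide +kernel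
theorem final6_c10 : allPow 49980 (finalStep fact node item6 T6 176388 6 49980) 10 10240 = true := by decide +kernel
theorem final6_c11 : allPow 49980 (finalStep fact node item6 T6 176388 6 49980) 10 11264 = true := by decide +kernel
theorem final6_c12 : allPow 49980 (finalStep fact node item6 T6 176388 6 49980) 10 12288 = true := by decide +kernel
theorem final6_c13 : allPow 49980 (finalStep fact node item6 T6 176388 6 49980) 10 13312 = true := by decide +kernel
theorem final6_c14 : allPow 49980 (finalStep fact node item6 T6 176388 6 49980) 10 14336 = true := by decide +kernel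
theorem final6_c15 : allPow 49980 (finalStep fact node item6 T6 176388 6 49980) 10 15360 = true := by decide +kernel
theorem final6_c16 : allPow 49980 (finalStep fact node item6 T6 176388 6 49980) 10 16384 = true := by decide +kernel
theorem final6_c17 : allPow 49980 (finalStep fact node item6 T6 176388 6 49980) 10 17408 = true := by decide +kernel
theorem final6_c18 : allPow 49980 (finalStep fact node item6 T6 176388 6 49980) 10 18432 = true := by decide +kernel
theorem final6_c19 : allPow 49980 (finalStep fact node item6 T6 176388 6 49980) 10 19456 = true := by decide +kernel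
theorem final6_c20 : allPow 49980 (finalStep fact node item6 T6 176388 6 49980) 10 20480 = true := by decide +kernel
theorem final6_c21 : allPow 49980 (finalStep fact node item6 T6 176388 6 49980) 10 21504 = true := by decide +kernel
theorem final6_c22 : allPow 49980 (finalStep fact node item6 T6 176388 6 49980) 10 22528 = true := by decide +kernel
theorem final6_c23 : allPow 49980 (finalStep fact node item6 T6 176388 6 49980) 10 23552 = true := by decide +kernel
theorem final6_c24 : allPow 49980 (finalStep fact node item6 T6 176388 6 49980) 10 24576 = true := by decide +kernel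
theorem final6_c25 : allPow 49980 (finalStep fact node item6 T6 176388 6 49980) 10 25600 = true := by decide +kernel
theorem final6_c26 : allPow 49980 (finalStep fact node item6 T6 176388 6 49980) 10 26624 = true := by decide +kernel
theorem final6_c27 : allPow 49980 (finalStep fact node item6 T6 176388 6 49980) 10 27648 = true := by decide +kernel
theorem final6_c28 : allPow 49980 (finalStep fact node item6 T6 176388 6 49980) 10 28672 = true := by decide +kernel
theorem final6_c29 : allPow 49980 (finalStep fact node item6 T6 176388 6 49980) 10 29696 = true := by decide +kernel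
theorem final6_c30 : allPow 49980 (finalStep fact node item6 T6 176388 6 49980) 10 30720 = true := by decide +kernel
theorem final6_c31 : allPow 49980 (finalStep fact node item6 T6 176388 6 49980) 10 31744 = true := by decide +kernel
theorem final6_c32 : allPow 49980 (finalStep fact node item6 T6 176388 6 49980) 10 32768 = true := by decide +kernel
theorem final6_c33 : allPow 49980 (finalStep fact node item6 T6 176388 6 49980) 10 33792 = true := by decide +kernel
theorem final6_c34 : allPow 49980 (finalStep fact node item6 T6 176388 6 49980) 10 34816 = true := by decide +kernel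
theorem final6_c35 : allPow 49980 (finalStep fact node item6 T6 176388 6 49980) 10 35840 = true := by decide +kernel
theorem final6_c36 : allPow 49980 (finalStep fact node item6 T6 176388 6 49980) 10 36864 = true := by decide +kernel
theorem final6_c37 : allPow 49980 (finalStep fact node item6 T6 176388 6 49980) 10 37888 = true := by decide +kernel
theorem final6_c38 : allPow 49980 (finalStep fact node item6 T6 176388 6 49980) 10 38912 = true := by decide +kernel
theorem final6_c39 : allPow 49980 (finalStep fact node item6 T6 176388 6 49980) 10 39936 = true := by decide +kernel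
theorem final6_c40 : allPow 49980 (finalStep fact node item6 T6 176388 6 49980) 10 40960 = true := by decide +kernel
theorem final6_c41 : allPow 49980 (finalStep fact node item6 T6 176388 6 49980) 10 41984 = true := by decide +kernel
theorem final6_c42 : allPow 49980 (finalStep fact node item6 T6 176388 6 49980) 10 43008 = true := by decide +kernel
theorem final6_c43 : allPow 49980 (finalStep fact node item6 T6 176388 6 49980) 10 44032 = true := by decide +kernel
theorem final6_c44 : allPow 49980 (finalStep fact node item6 T6 176388 6 49980) 10 45056 = true := by decide +kernel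
theorem final6_c45 : allPow 49980 (finalStep fact node item6 T6 176388 6 49980) 10 46080 = true := by decide +kernel
theorem final6_c46 : allPow 49980 (finalStep fact node item6 T6 176388 6 49980) 10 47104 = true := by decide +kernel
theorem final6_c47 : allPow 49980 (finalStep fact node item6 T6 176388 6 49980) 10 48128 = true := by decide +kernel
theorem final6_c48 : allPow 49980 (finalStep fact node item6 T6 176388 6 49980) 10 49152 = true := by decide +kernel
theorem final6 : allBelow 16 49980 (finalStep fact node item6 T6 176388 6 49980) = true :=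
  allBelow_of_upto (hi := 50176)
    (Upto.trans (mid := 24576) (Upto.trans (mid := 12288) (Upto.trans (mid := 6144) (Upto.trans (mid := 3072) (Upto.trans (mid := 1024) ((Upto.of_pow final6_c0 (Nat.le_refl _)) : Upto _ _ 0 (0 + 2 ^ 10))
    (Upto.trans (mid := 2048) ((Upto.of_pow final6_c1 (Nat.le_refl _)) : Upto _ _ 1024 (1024 + 2 ^ 10))
    ((Upto.of_pow final6_c2 (Nat.le_refl _)) : Upto _ _ 2048 (2048 + 2 ^ 10))))
    (Upto.trans (mid := 4096) ((Upto.of_pow final6_c3 (Nat.le_refl _)) : Upto _ _ 3072 (3072 + 2 ^ 10))
    (Upto.trans (mid := 5120) ((Upto.of_pow final6_c4 (Nat.le_refl _)) : Upto _ _ 4096 (4096 + 2 ^ 10))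
    ((Upto.of_pow final6_c5 (Nat.le_refl _)) : Upto _ _ 5120 (5120 + 2 ^ 10)))))
    (Upto.trans (mid := 9216) (Upto.trans (mid := 7168) ((Upto.of_pow final6_c6 (Nat.le_refl _)) : Upto _ _ 6144 (6144 + 2 ^ 10))
    (Upto.trans (mid := 8192) ((Upto.of_pow final6_c7 (Nat.le_refl _)) : Upto _ _ 7168 (7168 + 2 ^ 10))
    ((Upto.of_pow final6_c8 (Nat.le_refl _)) : Upto _ _ 8192 (8192 + 2 ^ 10))))
    (Upto.trans (mid := 10240) ((Upto.of_pow final6_c9 (Nat.le_refl _)) : Upto _ _ 9216 (9216 + 2 ^ 10))
    (Upto.trans (mid := 11264) ((Upto.of_pow final6_c10 (Nat.le_refl _)) : Upto _ _ 10240 (10240 + 2 ^ 10))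
    ((Upto.of_pow final6_c11 (Nat.le_refl _)) : Upto _ _ 11264 (11264 + 2 ^ 10))))))
    (Upto.trans (mid := 18432) (Upto.trans (mid := 15360) (Upto.trans (mid := 13312) ((Upto.of_pow final6_c12 (Nat.le_refl _)) : Upto _ _ 12288 (12288 + 2 ^ 10))
    (Upto.trans (mid := 14336) ((Upto.of_pow final6_c13 (Nat.le_refl _)) : Upto _ _ 13312 (13312 + 2 ^ 10))
    ((Upto.of_pow final6_c14 (Nat.le_refl _)) : Upto _ _ 14336 (14336 + 2 ^ 10))))
    (Upto.trans (mid := 16384) ((Upto.of_pow final6_c15 (Nat.le_refl _)) : Upto _ _ 15360 (15360 + 2 ^ 10))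
    (Upto.trans (mid := 17408) ((Upto.of_pow final6_c16 (Nat.le_refl _)) : Upto _ _ 16384 (16384 + 2 ^ 10))
    ((Upto.of_pow final6_c17 (Nat.le_refl _)) : Upto _ _ 17408 (17408 + 2 ^ 10)))))
    (Upto.trans (mid := 21504) (Upto.trans (mid := 19456) ((Upto.of_pow final6_c18 (Nat.le_refl _)) : Upto _ _ 18432 (18432 + 2 ^ 10))
    (Upto.trans (mid := 20480) ((Upto.of_pow final6_c19 (Nat.le_refl _)) : Upto _ _ 19456 (19456 + 2 ^ 10))
    ((Upto.of_pow final6_c20 (Nat.le_refl _)) : Upto _ _ 20480 (20480 + 2 ^ 10))))
    (Upto.trans (mid := 22528) ((Upto.of_pow final6_c21 (Nat.le_refl _)) : Upto _ _ 21504 (21504 + 2 ^ 10))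
    (Upto.trans (mid := 23552) ((Upto.of_pow final6_c22 (Nat.le_refl _)) : Upto _ _ 22528 (22528 + 2 ^ 10))
    ((Upto.of_pow final6_c23 (Nat.le_refl _)) : Upto _ _ 23552 (23552 + 2 ^ 10)))))))
    (Upto.trans (mid := 36864) (Upto.trans (mid := 30720) (Upto.trans (mid := 27648) (Upto.trans (mid := 25600) ((Upto.of_pow final6_c24 (Nat.le_refl _)) : Upto _ _ 24576 (24576 + 2 ^ 10))
    (Upto.trans (mid := 26624) ((Upto.of_pow final6_c25 (Nat.le_refl _)) : Upto _ _ 25600 (25600 + 2 ^ 10))
    ((Upto.of_pow final6_c26 (Nat.le_refl _)) : Upto _ _ 26624 (26624 + 2 ^ 10))))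
    (Upto.trans (mid := 28672) ((Upto.of_pow final6_c27 (Nat.le_refl _)) : Upto _ _ 27648 (27648 + 2 ^ 10))
    (Upto.trans (mid := 29696) ((Upto.of_pow final6_c28 (Nat.le_refl _)) : Upto _ _ 28672 (28672 + 2 ^ 10))
    ((Upto.of_pow final6_c29 (Nat.le_refl _)) : Upto _ _ 29696 (29696 + 2 ^ 10)))))
    (Upto.trans (mid := 33792) (Upto.trans (mid := 31744) ((Upto.of_pow final6_c30 (Nat.le_refl _)) : Upto _ _ 30720 (30720 + 2 ^ 10))
    (Upto.trans (mid := 32768) ((Upto.of_pow final6_c31 (Nat.le_refl _)) : Upto _ _ 31744 (31744 + 2 ^ 10))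
    ((Upto.of_pow final6_c32 (Nat.le_refl _)) : Upto _ _ 32768 (32768 + 2 ^ 10))))
    (Upto.trans (mid := 34816) ((Upto.of_pow final6_c33 (Nat.le_refl _)) : Upto _ _ 33792 (33792 + 2 ^ 10))
    (Upto.trans (mid := 35840) ((Upto.of_pow final6_c34 (Nat.le_refl _)) : Upto _ _ 34816 (34816 + 2 ^ 10))
    ((Upto.of_pow final6_c35 (Nat.le_refl _)) : Upto _ _ 35840 (35840 + 2 ^ 10))))))
    (Upto.trans (mid := 43008) (Upto.trans (mid := 39936) (Upto.trans (mid := 37888) ((Upto.of_pow final6_c36 (Nat.le_refl _)) : Upto _ _ 36864 (36864 + 2 ^ 10))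
    (Upto.trans (mid := 38912) ((Upto.of_pow final6_c37 (Nat.le_refl _)) : Upto _ _ 37888 (37888 + 2 ^ 10))
    ((Upto.of_pow final6_c38 (Nat.le_refl _)) : Upto _ _ 38912 (38912 + 2 ^ 10))))
    (Upto.trans (mid := 40960) ((Upto.of_pow final6_c39 (Nat.le_refl _)) : Upto _ _ 39936 (39936 + 2 ^ 10))
    (Upto.trans (mid := 41984) ((Upto.of_pow final6_c40 (Nat.le_refl _)) : Upto _ _ 40960 (40960 + 2 ^ 10))
    ((Upto.of_pow final6_c41 (Nat.le_refl _)) : Upto _ _ 41984 (41984 + 2 ^ 10)))))
    (Upto.trans (mid := 46080) (Upto.trans (mid := 44032) ((Upto.of_pow final6_c42 (Nat.le_refl _)) : Upto _ _ 43008 (43008 + 2 ^ 10))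
    (Upto.trans (mid := 45056) ((Upto.of_pow final6_c43 (Nat.le_refl _)) : Upto _ _ 44032 (44032 + 2 ^ 10))
    ((Upto.of_pow final6_c44 (Nat.le_refl _)) : Upto _ _ 45056 (45056 + 2 ^ 10))))
    (Upto.trans (mid := 48128) (Upto.trans (mid := 47104) ((Upto.of_pow final6_c45 (Nat.le_refl _)) : Upto _ _ 46080 (46080 + 2 ^ 10))
    ((Upto.of_pow final6_c46 (Nat.le_refl _)) : Upto _ _ 47104 (47104 + 2 ^ 10)))
    (Upto.trans (mid := 49152) ((Upto.of_pow final6_c47 (Nat.le_refl _)) : Upto _ _ 48128 (48128 + 2 ^ 10))
    ((Upto.of_pow final6_c48 (Nat.le_refl _)) : Upto _ _ 49152 (49152 + 2 ^ 10))))))))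
    (by decide) (by decide)

theorem final7_c0 : allPow 49980 (finalStep fact node item7 T7 176388 7 49980) 10 0 = true := by decide +kernel
theorem final7_c1 : allPow 49980 (finalStep fact node item7 T7 176388 7 49980) 10 1024 = true := by decide +kernel
theorem final7_c2 : allPow 49980 (finalStep fact node item7 T7 176388 7 49980) 10 2048 = true := by decide +kernel
theorem final7_c3 : allPow 49980 (finalStep fact node item7 T7 176388 7 49980) 10 3072 = true := by decide +kernel
theorem final7_c4 : allPow 49980 (finalStep fact node item7 T7 176388 7 49980) 10 4096 = true := by decide +kernel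
theorem final7_c5 : allPow 49980 (finalStep fact node item7 T7 176388 7 49980) 10 5120 = true := by decide +kernel
theorem final7_c6 : allPow 49980 (finalStep fact node item7 T7 176388 7 49980) 10 6144 = true := by decide +kernel
theorem final7_c7 : allPow 49980 (finalStep fact node item7 T7 176388 7 49980) 10 7168 = true := by decide +kernel
theorem final7_c8 : allPow 49980 (finalStep fact node item7 T7 176388 7 49980) 10 8192 = true := by decide +kernel
theorem final7_c9 : allPow 49980 (finalStep fact node item7 T7 176388 7 49980) 10 9216 = true := by decide +kernel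
theorem final7_c10 : allPow 49980 (finalStep fact node item7 T7 176388 7 49980) 10 10240 = true := by decide +kernel
theorem final7_c11 : allPow 49980 (finalStep fact node item7 T7 176388 7 49980) 10 11264 = true := by decide +kernel
theorem final7_c12 : allPow 49980 (finalStep fact node item7 T7 176388 7 49980) 10 12288 = true := by decide +kernel
theorem final7_c13 : allPow 49980 (finalStep fact node item7 T7 176388 7 49980) 10 13312 = true := by decide +kernel
theorem final7_c14 : allPow 49980 (finalStep fact node item7 T7 176388 7 49980) 10 14336 = true := by decide +kernel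
theorem final7_c15 : allPow 49980 (finalStep fact node item7 T7 176388 7 49980) 10 15360 = true := by decide +kernel
theorem final7_c16 : allPow 49980 (finalStep fact node item7 T7 176388 7 49980) 10 16384 = true := by decide +kernel
theorem final7_c17 : allPow 49980 (finalStep fact node item7 T7 176388 7 49980) 10 17408 = true := by decide +kernel
theorem final7_c18 : allPow 49980 (finalStep fact node item7 T7 176388 7 49980) 10 18432 = true := by decide +kernel
theorem final7_c19 : allPow 49980 (finalStep fact node item7 T7 176388 7 49980) 10 19456 = true := by decide +kernel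
theorem final7_c20 : allPow 49980 (finalStep fact node item7 T7 176388 7 49980) 10 20480 = true := by decide +kernel
theorem final7_c21 : allPow 49980 (finalStep fact node item7 T7 176388 7 49980) 10 21504 = true := by decide +kernel
theorem final7_c22 : allPow 49980 (finalStep fact node item7 T7 176388 7 49980) 10 22528 = true := by decide +kernel
theorem final7_c23 : allPow 49980 (finalStep fact node item7 T7 176388 7 49980) 10 23552 = true := by decide +kernel
theorem final7_c24 : allPow 49980 (finalStep fact node item7 T7 176388 7 49980) 10 24576 = true := by decide +kernel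
theorem final7_c25 : allPow 49980 (finalStep fact node item7 T7 176388 7 49980) 10 25600 = true := by decide +kernel
theorem final7_c26 : allPow 49980 (finalStep fact node item7 T7 176388 7 49980) 10 26624 = true := by decide +kernel
theorem final7_c27 : allPow 49980 (finalStep fact node item7 T7 176388 7 49980) 10 27648 = true := by decide +kernel
theorem final7_c28 : allPow 49980 (finalStep fact node item7 T7 176388 7 49980) 10 28672 = true := by decide +kernel
theorem final7_c29 : allPow 49980 (finalStep fact node item7 T7 176388 7 49980) 10 29696 = true := by decide +kernel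
theorem final7_c30 : allPow 49980 (finalStep fact node item7 T7 176388 7 49980) 10 30720 = true := by decide +kernel
theorem final7_c31 : allPow 49980 (finalStep fact node item7 T7 176388 7 49980) 10 31744 = true := by decide +kernel
theorem final7_c32 : allPow 49980 (finalStep fact node item7 T7 176388 7 49980) 10 32768 = true := by decide +kernel
theorem final7_c33 : allPow 49980 (finalStep fact node item7 T7 176388 7 49980) 10 33792 = true := by decide +kernel
theorem final7_c34 : allPow 49980 (finalStep fact node item7 T7 176388 7 49980) 10 34816 = true := by decide +kernel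
theorem final7_c35 : allPow 49980 (finalStep fact node item7 T7 176388 7 49980) 10 35840 = true := by decide +kernel
theorem final7_c36 : allPow 49980 (finalStep fact node item7 T7 176388 7 49980) 10 36864 = true := by decide +kernel
theorem final7_c37 : allPow 49980 (finalStep fact node item7 T7 176388 7 49980) 10 37888 = true := by decide +kernel
theorem final7_c38 : allPow 49980 (finalStep fact node item7 T7 176388 7 49980) 10 38912 = true := by decide +kernel
theorem final7_c39 : allPow 49980 (finalStep fact node item7 T7 176388 7 49980) 10 39936 = true := by decide +kernel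
theorem final7_c40 : allPow 49980 (finalStep fact node item7 T7 176388 7 49980) 10 40960 = true := by decide +kernel
theorem final7_c41 : allPow 49980 (finalStep fact node item7 T7 176388 7 49980) 10 41984 = true := by decide +kernel
theorem final7_c42 : allPow 49980 (finalStep fact node item7 T7 176388 7 49980) 10 43008 = true := by decide +kernel
theorem final7_c43 : allPow 49980 (finalStep fact node item7 T7 176388 7 49980) 10 44032 = true := by decide +kernel
theorem final7_c44 : allPow 49980 (finalStep fact node item7 T7 176388 7 49980) 10 45056 = true := by decide +kernel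
theorem final7_c45 : allPow 49980 (finalStep fact node item7 T7 176388 7 49980) 10 46080 = true := by decide +kernel
theorem final7_c46 : allPow 49980 (finalStep fact node item7 T7 176388 7 49980) 10 47104 = true := by decide +kernel
theorem final7_c47 : allPow 49980 (finalStep fact node item7 T7 176388 7 49980) 10 48128 = true := by decide +kernel
theorem final7_c48 : allPow 49980 (finalStep fact node item7 T7 176388 7 49980) 10 49152 = true := by decide +kernel
theorem final7 : allBelow 16 49980 (finalStep fact node item7 T7 176388 7 49980) = true :=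
  allBelow_of_upto (hi := 50176)
    (Upto.trans (mid := 24576) (Upto.trans (mid := 12288) (Upto.trans (mid := 6144) (Upto.trans (mid := 3072) (Upto.trans (mid := 1024) ((Upto.of_pow final7_c0 (Nat.le_refl _)) : Upto _ _ 0 (0 + 2 ^ 10))
    (Upto.trans (mid := 2048) ((Upto.of_pow final7_c1 (Nat.le_refl _)) : Upto _ _ 1024 (1024 + 2 ^ 10))
    ((Upto.of_pow final7_c2 (Nat.le_refl _)) : Upto _ _ 2048 (2048 + 2 ^ 10))))
    (Upto.trans (mid := 4096) ((Upto.of_pow final7_c3 (Nat.le_refl _)) : Upto _ _ 3072 (3072 + 2 ^ 10))
    (Upto.trans (mid := 5120) ((Upto.of_pow final7_c4 (Nat.le_refl _)) : Upto _ _ 4096 (4096 + 2 ^ 10))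
    ((Upto.of_pow final7_c5 (Nat.le_refl _)) : Upto _ _ 5120 (5120 + 2 ^ 10)))))
    (Upto.trans (mid := 9216) (Upto.trans (mid := 7168) ((Upto.of_pow final7_c6 (Nat.le_refl _)) : Upto _ _ 6144 (6144 + 2 ^ 10))
    (Upto.trans (mid := 8192) ((Upto.of_pow final7_c7 (Nat.le_refl _)) : Upto _ _ 7168 (7168 + 2 ^ 10))
    ((Upto.of_pow final7_c8 (Nat.le_refl _)) : Upto _ _ 8192 (8192 + 2 ^ 10))))
    (Upto.trans (mid := 10240) ((Upto.of_pow final7_c9 (Nat.le_refl _)) : Upto _ _ 9216 (9216 + 2 ^ 10))
    (Upto.trans (mid := 11264) ((Upto.of_pow final7_c10 (Nat.le_refl _)) : Upto _ _ 10240 (10240 + 2 ^ 10))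
    ((Upto.of_pow final7_c11 (Nat.le_refl _)) : Upto _ _ 11264 (11264 + 2 ^ 10))))))
    (Upto.trans (mid := 18432) (Upto.trans (mid := 15360) (Upto.trans (mid := 13312) ((Upto.of_pow final7_c12 (Nat.le_refl _)) : Upto _ _ 12288 (12288 + 2 ^ 10))
    (Upto.trans (mid := 14336) ((Upto.of_pow final7_c13 (Nat.le_refl _)) : Upto _ _ 13312 (13312 + 2 ^ 10))
    ((Upto.of_pow final7_c14 (Nat.le_refl _)) : Upto _ _ 14336 (14336 + 2 ^ 10))))
    (Upto.trans (mid := 16384) ((Upto.of_pow final7_c15 (Nat.le_refl _)) : Upto _ _ 15360 (15360 + 2 ^ 10))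
    (Upto.trans (mid := 17408) ((Upto.of_pow final7_c16 (Nat.le_refl _)) : Upto _ _ 16384 (16384 + 2 ^ 10))
    ((Upto.of_pow final7_c17 (Nat.le_refl _)) : Upto _ _ 17408 (17408 + 2 ^ 10)))))
    (Upto.trans (mid := 21504) (Upto.trans (mid := 19456) ((Upto.of_pow final7_c18 (Nat.le_refl _)) : Upto _ _ 18432 (18432 + 2 ^ 10))
    (Upto.trans (mid := 20480) ((Upto.of_pow final7_c19 (Nat.le_refl _)) : Upto _ _ 19456 (19456 + 2 ^ 10))
    ((Upto.of_pow final7_c20 (Nat.le_refl _)) : Upto _ _ 20480 (20480 + 2 ^ 10))))
    (Upto.trans (mid := 22528) ((Upto.of_pow final7_c21 (Nat.le_refl _)) : Upto _ _ 21504 (21504 + 2 ^ 10))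
    (Upto.trans (mid := 23552) ((Upto.of_pow final7_c22 (Nat.le_refl _)) : Upto _ _ 22528 (22528 + 2 ^ 10))
    ((Upto.of_pow final7_c23 (Nat.le_refl _)) : Upto _ _ 23552 (23552 + 2 ^ 10)))))))
    (Upto.trans (mid := 36864) (Upto.trans (mid := 30720) (Upto.trans (mid := 27648) (Upto.trans (mid := 25600) ((Upto.of_pow final7_c24 (Nat.le_refl _)) : Upto _ _ 24576 (24576 + 2 ^ 10))
    (Upto.trans (mid := 26624) ((Upto.of_pow final7_c25 (Nat.le_refl _)) : Upto _ _ 25600 (25600 + 2 ^ 10))
    ((Upto.of_pow final7_c26 (Nat.le_refl _)) : Upto _ _ 26624 (26624 + 2 ^ 10))))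
    (Upto.trans (mid := 28672) ((Upto.of_pow final7_c27 (Nat.le_refl _)) : Upto _ _ 27648 (27648 + 2 ^ 10))
    (Upto.trans (mid := 29696) ((Upto.of_pow final7_c28 (Nat.le_refl _)) : Upto _ _ 28672 (28672 + 2 ^ 10))
    ((Upto.of_pow final7_c29 (Nat.le_refl _)) : Upto _ _ 29696 (29696 + 2 ^ 10)))))
    (Upto.trans (mid := 33792) (Upto.trans (mid := 31744) ((Upto.of_pow final7_c30 (Nat.le_refl _)) : Upto _ _ 30720 (30720 + 2 ^ 10))
    (Upto.trans (mid := 32768) ((Upto.of_pow final7_c31 (Nat.le_refl _)) : Upto _ _ 31744 (31744 + 2 ^ 10))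
    ((Upto.of_pow final7_c32 (Nat.le_refl _)) : Upto _ _ 32768 (32768 + 2 ^ 10))))
    (Upto.trans (mid := 34816) ((Upto.of_pow final7_c33 (Nat.le_refl _)) : Upto _ _ 33792 (33792 + 2 ^ 10))
    (Upto.trans (mid := 35840) ((Upto.of_pow final7_c34 (Nat.le_refl _)) : Upto _ _ 34816 (34816 + 2 ^ 10))
    ((Upto.of_pow final7_c35 (Nat.le_refl _)) : Upto _ _ 35840 (35840 + 2 ^ 10))))))
    (Upto.trans (mid := 43008) (Upto.trans (mid := 39936) (Upto.trans (mid := 37888) ((Upto.of_pow final7_c36 (Nat.le_refl _)) : Upto _ _ 36864 (36864 + 2 ^ 10))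
    (Upto.trans (mid := 38912) ((Upto.of_pow final7_c37 (Nat.le_refl _)) : Upto _ _ 37888 (37888 + 2 ^ 10))
    ((Upto.of_pow final7_c38 (Nat.le_refl _)) : Upto _ _ 38912 (38912 + 2 ^ 10))))
    (Upto.trans (mid := 40960) ((Upto.of_pow final7_c39 (Nat.le_refl _)) : Upto _ _ 39936 (39936 + 2 ^ 10))
    (Upto.trans (mid := 41984) ((Upto.of_pow final7_c40 (Nat.le_refl _)) : Upto _ _ 40960 (40960 + 2 ^ 10))
    ((Upto.of_pow final7_c41 (Nat.le_refl _)) : Upto _ _ 41984 (41984 + 2 ^ 10)))))
    (Upto.trans (mid := 46080) (Upto.trans (mid := 44032) ((Upto.of_pow final7_c42 (Nat.le_refl _)) : Upto _ _ 43008 (43008 + 2 ^ 10))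
    (Upto.trans (mid := 45056) ((Upto.of_pow final7_c43 (Nat.le_refl _)) : Upto _ _ 44032 (44032 + 2 ^ 10))
    ((Upto.of_pow final7_c44 (Nat.le_refl _)) : Upto _ _ 45056 (45056 + 2 ^ 10))))
    (Upto.trans (mid := 48128) (Upto.trans (mid := 47104) ((Upto.of_pow final7_c45 (Nat.le_refl _)) : Upto _ _ 46080 (46080 + 2 ^ 10))
    ((Upto.of_pow final7_c46 (Nat.le_refl _)) : Upto _ _ 47104 (47104 + 2 ^ 10)))
    (Upto.trans (mid := 49152) ((Upto.of_pow final7_c47 (Nat.le_refl _)) : Upto _ _ 48128 (48128 + 2 ^ 10))
    ((Upto.of_pow final7_c48 (Nat.le_refl _)) : Upto _ _ 49152 (49152 + 2 ^ 10))))))))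
    (by decide) (by decide)

theorem relW_one : ∀ w ∈ relW, evalW (PresentedGroup.of (rels := (Cfsg.Spor.coxRelators Cfsg.Spor.He.edges ∪ {r | r ∈ Cfsg.Spor.He.extra}))) w = 1 := by
  have h : coxW Cfsg.Spor.He.edges pairs extraW = relW := by decide +kernel
  rw [← h]
  exact coxW_eq_one (by decide +kernel) rfl

noncomputable def tabU : Cfsg.Spor.He.Gen → Nat → Nat := fun a => tabs a true

theorem sect : ∃ s : Nat → PresentedGroup (Cfsg.Spor.coxRelators Cfsg.Spor.He.edges ∪ {r | r ∈ Cfsg.Spor.He.extra}) ⧸ wordSubgroup (Cfsg.Spor.coxRelators Cfsg.Spor.He.edges ∪ {r | r ∈ Cfsg.Spor.He.extra}) subW,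
    s 0 = ((1 : PresentedGroup (Cfsg.Spor.coxRelators Cfsg.Spor.He.edges ∪ {r | r ∈ Cfsg.Spor.He.extra})) : PresentedGroup (Cfsg.Spor.coxRelators Cfsg.Spor.He.edges ∪ {r | r ∈ Cfsg.Spor.He.extra}) ⧸ wordSubgroup (Cfsg.Spor.coxRelators Cfsg.Spor.He.edges ∪ {r | r ∈ Cfsg.Spor.He.extra}) subW) ∧
    ∀ a ∈ ([.a, .b, .c, .d, .e, .f, .g] : List Cfsg.Spor.He.Gen), ∀ u, u < 49980 → tabU a u < 49980 ∧
      (PresentedGroup.of (rels := (Cfsg.Spor.coxRelators Cfsg.Spor.He.edges ∪ {r | r ∈ Cfsg.Spor.He.extra})) a) • s u = s (tabU a u) :=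
  section_of_checks invols relW relW_one (by decide +kernel) subW lets data rtriv rroot 32 38 rfl rfl
    (by decide +kernel) (by decide +kernel) (fun k hk => allBelow_spec defs_ok k hk) (covers1.trans (covers2.trans (covers3.trans (covers4.trans (covers5.trans (covers6.trans (covers7.trans (covers8.trans (covers9.trans (covers10.trans (covers11.trans (covers12.trans (covers13.trans (covers14.trans (covers15.trans (covers16)))))))))))))))) (by decide +kernel)
    (by
      intro i hi u hu
      have hi' : i < 7 := hi
      interval_cases i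
      · exact allBelow_spec final1 u hu
      · exact allBelow_spec final2 u hu
      · exact allBelow_spec final3 u hu
      · exact allBelow_spec final4 u hu
      · exact allBelow_spec final5 u hu
      · exact allBelow_spec final6 u hu
      · exact allBelow_spec final7 u hu
      ) [.a, .b, .c, .d, .e, .f, .g] tabU (by
      intro a ha
      fin_cases ha
      · exact ⟨0, by decide, rfl, rfl⟩
      · exact ⟨1, by decide, rfl, rfl⟩
      · exact ⟨2, by decide, rfl, rfl⟩
      · exact ⟨3, by decide, rfl, rfl⟩
      · exact ⟨4, by decide, rfl, rfl⟩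
      · exact ⟨5, by decide, rfl, rfl⟩
      · exact ⟨6, by decide, rfl, rfl⟩
      )

end CfsgLib.SporRecognition.Cert.He49980
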